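import Groth.Agent.Lib.FaltingsD3.Dual
import Groth.Agent.Lib.FaltingsT3.Main

/-!
# Faltings' annihilator theorem for complexes
-/

set_option autoImplicit false
set_option linter.style.haveILetI false
universe u

open CategoryTheory PrimeSpectrum GrothLib.DualCx22 GrothLib.DualRing GrothLib.FaltingsT3

attribute [local instance] HasDerivedCategory.standard

namespace GrothLib.FaltingsD3

variable {A : Type u} [CommRing A]

theorem cond_zero [IsNoetherianRing A] (L : Cx A) {T : Set (PrimeSpectrum A)} (hT : StableUnderSpecialization T) (a : A)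
    (ha : ∀ x : L.HG T 0, a • x = 0) : ∀ q ∈ T, Cond (L.g 0) a q := by
  intro q hq m hm
  obtain ⟨u, hu, hum⟩ := exists_supported hm
  obtain ⟨w, -, hw⟩ := (Cx.killed_iff L T a).1 ha (u • m)
    (fun r hr => hum r fun hqr => hr (hT ((PrimeSpectrum.le_iff_specializes q r).1 hqr) hq))
  exact ⟨0, u, hu, fun r _ => Van.zero r, by rw [smul_comm, ← hw, L.eq_zero w]⟩

variable [IsNoetherianRing A] {ω : Dual.D A} (hω : Dual.IsDualizing A ω)

include hω in
/-- From the points to the whole of `T`. -/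
theorem exists_pow_killed (L : Cx A) {T : Set (PrimeSpectrum A)} (hT : StableUnderSpecialization T) (n : ℕ) (a : A)
    (h : ∀ q ∈ T, Cond (L.g n) a q) : ∃ k : ℕ, ∀ x : L.HG T n, a ^ k • x = 0 := by
  obtain ⟨lo, hi, hrange⟩ := exists_deg_range hω
  refine ⟨(hi + 1 - lo).toNat, (Cx.killed_iff L T _).mpr fun m hm => ?_⟩
  obtain ⟨e, he, h'⟩ := exists_pow_smul_sub_mem (L.g n) (L.baer n) a (degS hω)
    (degS_strictMono hω) hrange (T₁ := ∅) (fun _ _ _ hx => hx) hT ⊤ le_top
    (fun q hq _ m _ hm => h q hq m hm) m hm trivial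
  refine ⟨e, he, (sub_eq_zero.mp ?_).symm⟩
  by_contra hne
  obtain ⟨P, hP, hle⟩ := Ideal.exists_le_maximal
    (LinearMap.ker (LinearMap.toSpanSingleton A (L.Z n)
      (a ^ (hi + 1 - lo).toNat • m - L.g n e))) (fun htop => hne (by
        have := LinearMap.mem_ker.1 (htop ▸ (Submodule.mem_top : (1 : A) ∈ _))
        rwa [LinearMap.toSpanSingleton_apply, one_smul] at this))
  exact not_van_iff.2 hle (h' ⟨P, hP.isPrime⟩ (Set.notMem_empty _))

include hω in
/-- From a killer on `T` and killers at the points in lower degree, a killer at the points. -/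
theorem cond_mul (L : Cx A) {T : Set (PrimeSpectrum A)} (hT : StableUnderSpecialization T) (n : ℕ) (a b : A)
    (ha : ∀ x : L.HG T (n + 1), a • x = 0) (hb : ∀ q ∈ T, Cond (L.g n) b q) :
    ∃ k : ℕ, ∀ q ∈ T, Cond (L.g (n + 1)) (b ^ k * a) q := by
  obtain ⟨lo, hi, hrange⟩ := exists_deg_range hω
  refine ⟨(hi + 1 - lo).toNat, fun q hq m hm => ?_⟩
  obtain ⟨u, hu, hum⟩ := exists_supported hm
  let T₁ : Set (PrimeSpectrum A) := {r | q ≤ r}
  have hT₁ : StableUnderSpecialization T₁ := fun x y hxy hx => le_trans hx ((PrimeSpectrum.le_iff_specializes x y).2 hxy)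
  obtain ⟨e, he, hge⟩ := (Cx.killed_iff L T a).1 ha (u • m)
    (fun r hr => hum r fun hqr => hr (hT ((PrimeSpectrum.le_iff_specializes q r).1 hqr) hq))
  let ι := (L.Z n).subtype
  have hι : Function.Injective ι := Subtype.val_injective
  let K : Submodule A (L.X (n + 1)) := (Gam T₁ (L.Z (n + 1))).comap (L.g (n + 1))
  have hπι : ∀ y, L.g (n + 1) (ι y) = 0 := fun y => Subtype.ext y.2
  have hK : LinearMap.range (ι ∘ₗ L.g n) ≤ K := by
    rintro _ ⟨x, rfl⟩
    show L.g (n + 1) (ι (L.g n x)) ∈ Gam T₁ _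
    rw [hπι]
    exact zero_mem _
  obtain ⟨e₂, he₂, h₂⟩ := exists_pow_smul_sub_mem (ι ∘ₗ L.g n) (L.baer n) b (degS hω)
    (degS_strictMono hω) hrange (T₁ := T₁) hT₁ hT K hK
    (fun r hr hr1 w hw hwv => by
      obtain ⟨t, ht, ht'⟩ := (hw : L.g (n + 1) w ∈ Gam T₁ _) r hr1
      rw [← map_smul] at ht'
      let c : L.Z n := ⟨t • w, congrArg Subtype.val ht'⟩
      have hcv : ∀ r', r' < r → Van r' c := fun r' hr' => by
        obtain ⟨s', hs', hs''⟩ := (hwv r' hr').smul t
        exact ⟨s', hs', hι hs''⟩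
      obtain ⟨e', s', hs', he', hse⟩ := hb r hr c hcv
      refine ⟨e', s' * t, r.isPrime.mul_notMem hs' ht, he', ?_⟩
      rw [LinearMap.comp_apply, ← hse, map_smul, map_smul, show ι c = t • w from rfl, mul_smul, smul_comm b t])
    e he (by
      show L.g (n + 1) e ∈ Gam T₁ _
      rw [hge]
      exact Submodule.smul_mem _ a fun r hr => hum r hr)
  refine ⟨b ^ (hi + 1 - lo).toNat • e - ι (L.g n e₂), u, hu, fun r hr => h₂ r hr.not_ge, ?_⟩
  rw [map_sub, hπι, sub_zero, map_smul, hge, mul_smul, smul_comm u, smul_comm u a]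

variable (K : Dual.D A)

/-- `a` kills the dual in degree `deg q - i` at `q`. -/
def LK (i : ℤ) (a : A) (q : PrimeSpectrum A) : Prop :=
  ∀ φ : EH ω K (deg hω q.asIdeal - i), ∃ s, s ∉ q.asIdeal ∧ s • a • φ = 0

/-- The condition of the theorem. -/
def DepthCond (T T' : Set (PrimeSpectrum A)) (s : ℤ) : Prop :=
  ∀ p q : PrimeSpectrum A, p ∉ T' → q ∈ T → p ≤ q →
    ∀ i : ℤ, i ≤ s - (deg hω q.asIdeal - deg hω p.asIdeal) → LK hω K i 1 p

variable {K} {T T' : Set (PrimeSpectrum A)} (hK : ∀ j, Module.Finite A (Dual.HD A K j))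

include hK in
/-- An ideal working at the points under the depth condition. -/
theorem exists_killer_points (hT' : StableUnderSpecialization T') (lo' s : ℤ) (h : DepthCond hω K T T' s) :
    ∃ J : Ideal A, zeroLocus (J : Set A) ⊆ T' ∧ ∀ a ∈ J, ∀ q ∈ T, ∀ i : ℤ, lo' ≤ i → i ≤ s → LK hω K i a q := by
  classical
  obtain ⟨lo, hi, hrange⟩ := exists_deg_range hω
  have hX : ∀ j : ℤ, ∃ J : Ideal A, zeroLocus (J : Set A) ⊆ T' ∧ ∀ a ∈ J, ∀ q ∈ T, deg hω q.asIdeal ≤ j + s →
      ∀ φ : EH ω K j, ∃ t, t ∉ q.asIdeal ∧ t • a • φ = 0 := by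
    intro j
    obtain ⟨X, hXf, ⟨eX⟩⟩ := exists_finite_hom_equiv hω K hK j
    obtain ⟨J, hJ, hJk⟩ := exists_ideal_killing hT' X
    refine ⟨J, hJ, fun a ha q hq hdeg φ => ?_⟩
    obtain ⟨x, rfl⟩ := eX.surjective φ
    suffices hsupp : ∀ r, r ≤ q → r ∈ Module.support A X → r ∈ T' by
      obtain ⟨t, ht, ht'⟩ := hJk q hsupp a ha x
      exact ⟨t, ht, by rw [← map_smul, ← map_smul, ht', map_zero]⟩
    intro r hrq hr
    by_contra hrT
    have hlk := h r q hrT hq hrq (deg hω r.asIdeal - j) (by omega)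
    obtain ⟨y, hy⟩ := Module.mem_support_iff'.mp hr
    unfold LK at hlk
    rw [sub_sub_cancel] at hlk
    obtain ⟨t, ht, ht'⟩ := hlk (eX y)
    refine hy t ht (eX.injective ?_)
    rw [one_smul] at ht'
    rw [map_smul, map_zero]
    exact ht'
  choose J hJ hJk using hX
  refine ⟨∏ j ∈ Finset.Icc (lo - s) (hi - lo'), J j, GrothLib.LCSupp.mem_prod _ _ fun j _ => hJ j,
    fun a ha q hq i hlo hi' φ => ?_⟩
  have hmem : deg hω q.asIdeal - i ∈ Finset.Icc (lo - s) (hi - lo') := by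
    rw [Finset.mem_Icc]
    have := hrange q
    simp only [degS] at this
    omega
  exact hJk _ a (Ideal.le_of_dvd (Finset.dvd_prod_of_mem _ hmem) ha) q hq (by omega) φ

include hK in
/-- An ideal killing the cohomology with supports. -/
theorem exists_killer (L : Cx A) (a₀ : ℤ) (hL : ∀ (n : ℕ) (a : A) q, LK hω K (a₀ + n) a q ↔ Cond (L.g n) a q)
    (hT : StableUnderSpecialization T) (hT' : StableUnderSpecialization T') (S : ℕ)
    (h : DepthCond hω K T T' (a₀ + S)) :
    ∃ J : Ideal A, zeroLocus (J : Set A) ⊆ T' ∧ ∀ n ≤ S, ∀ a ∈ J, ∀ x : L.HG T n, a • x = 0 := by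
  obtain ⟨J, hJ, hJk⟩ := exists_killer_points hω hK hT' a₀ (a₀ + S) h
  let I : Ideal A := ⨅ n : Fin (S + 1), Module.annihilator A (L.HG T n.1)
  have hle : J ≤ I.radical := fun a ha => by
    choose k hk using fun n : Fin (S + 1) => exists_pow_killed hω L hT n.1 a fun q hq =>
      (hL n.1 a q).1 (hJk a ha q hq (a₀ + n.1) (by omega) (by have := n.2; omega))
    refine ⟨∑ n, k n, ?_⟩
    simp only [I, Ideal.mem_iInf, Module.mem_annihilator]
    intro n x
    obtain ⟨c, hc⟩ := le_iff_exists_add'.1 (Finset.single_le_sum (fun j _ => Nat.zero_le (k j)) (Finset.mem_univ n))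
    rw [hc, pow_add, mul_smul, hk n x, smul_zero]
  obtain ⟨N, hN⟩ := Ideal.exists_pow_le_of_le_radical_of_fg hle (IsNoetherian.noetherian _)
  refine ⟨J ^ N, GrothLib.LCSupp.mem_pow hJ N, fun n hn a ha x => ?_⟩
  have := hN ha
  simp only [I, Ideal.mem_iInf, Module.mem_annihilator] at this
  exact this ⟨n, Nat.lt_succ_of_le hn⟩ x

include hK in
/-- **Necessity.** -/
theorem depthCond_of_killer (L : Cx A) (a₀ : ℤ) (hL : ∀ (n : ℕ) (a : A) q, LK hω K (a₀ + n) a q ↔ Cond (L.g n) a q)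
    (hlow : ∀ i < a₀, ∀ q, LK hω K i 1 q)
    (hT : StableUnderSpecialization T) (hT' : StableUnderSpecialization T') :
    ∀ S : ℕ, (∃ J : Ideal A, zeroLocus (J : Set A) ⊆ T' ∧ ∀ n ≤ S, ∀ a ∈ J, ∀ x : L.HG T n, a • x = 0) →
      DepthCond hω K T T' (a₀ + S) := by
  intro S
  induction S using Nat.strong_induction_on with
  | _ S ih =>
    rintro ⟨J, hJ, hJk⟩ p q hp hq hpq i hi
    have hdeg := (degS_strictMono hω).monotone hpq
    simp only [degS] at hdeg
    have finish : ∀ c : A, c ∉ p.asIdeal → LK hω K (i + (deg hω q.asIdeal - deg hω p.asIdeal)) c q → LK hω K i 1 p := by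
      intro c hc hk
      unfold LK at hk
      rw [show deg hω q.asIdeal - (i + (deg hω q.asIdeal - deg hω p.asIdeal)) = deg hω p.asIdeal - i by ring] at hk
      intro φ
      obtain ⟨t, ht, ht'⟩ := hk φ
      exact ⟨t * c, p.isPrime.mul_notMem (fun h => ht (hpq h)) hc, by rw [one_smul, mul_smul]; exact ht'⟩
    by_cases hlt : i + (deg hω q.asIdeal - deg hω p.asIdeal) < a₀
    · exact finish 1 (fun h => p.isPrime.ne_top ((Ideal.eq_top_iff_one _).2 h)) (hlow _ hlt q)
    obtain ⟨n, hn⟩ : ∃ n : ℕ, a₀ + (n : ℤ) = i + (deg hω q.asIdeal - deg hω p.asIdeal) :=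
      ⟨(i + (deg hω q.asIdeal - deg hω p.asIdeal) - a₀).toNat, by omega⟩
    have hnS : n ≤ S := by omega
    obtain ⟨a, haJ, hap⟩ := SetLike.not_le_iff_exists.mp (fun hle : J ≤ p.asIdeal => hp (hJ hle))
    obtain ⟨c, hcp, hc⟩ : ∃ c, c ∉ p.asIdeal ∧ Cond (L.g n) c q := by
      rcases n with - | n'
      · exact ⟨a, hap, cond_zero L hT a (fun x => hJk 0 hnS a haJ x) q hq⟩
      · obtain ⟨J', hJ', hJk'⟩ := exists_killer_points hω hK hT' a₀ (a₀ + n')
          (ih n' (by omega) ⟨J, hJ, fun j hj => hJk j (hj.trans (by omega))⟩)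
        obtain ⟨b, hbJ, hbp⟩ := SetLike.not_le_iff_exists.mp (fun hle : J' ≤ p.asIdeal => hp (hJ' hle))
        obtain ⟨k, hk⟩ := cond_mul hω L hT n' a b (fun x => hJk (n' + 1) hnS a haJ x)
          fun r hr => (hL n' b r).1 (hJk' b hbJ r hr (a₀ + n') (by omega) le_rfl)
        exact ⟨b ^ k * a, p.isPrime.mul_notMem (fun h => hbp (p.isPrime.mem_of_pow_mem k h)) hap, hk q hq⟩
    exact finish c hcp (hn ▸ (hL n c q).2 hc)

include hω in
theorem height_Ici {p q : PrimeSpectrum A} (h : p ≤ q) :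
    Order.height (⟨q, h⟩ : Set.Ici p) = (((deg hω q.asIdeal - deg hω p.asIdeal).toNat : ℕ) : ℕ∞) := by
  refine WithBot.coe_injective ?_
  refine ((Order.height_eq_krullDim_Iic _).trans ?_).trans (krullDim_Icc hω h)
  exact Order.krullDim_eq_of_orderIso
    { toFun := fun x => ⟨x.1.1, x.1.2, x.2⟩
      invFun := fun x => ⟨⟨x.1, x.2.1⟩, x.2.2⟩
      left_inv := fun _ => rfl
      right_inv := fun _ => rfl
      map_rel_iff' := Iff.rfl }

/-- **Faltings' annihilator theorem for complexes.** -/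
theorem annihilator_iff (hT : StableUnderSpecialization T) (hT' : StableUnderSpecialization T') (hω : Dual.IsDualizing A ω)
    (K : Dual.D A) (a₀ : ℤ) (hKa : ∀ i, i < a₀ → Subsingleton (Dual.HD A K i))
    (hK : ∀ i, Module.Finite A (Dual.HD A K i)) (N : ℤ) [K.IsLE N] (s : ℤ)
    [∀ p : PrimeSpectrum A, DRing.HasLBaseChange (algebraMap A (Localization.AtPrime p.asIdeal))] :
    (∃ J : Ideal A, zeroLocus (J : Set A) ⊆ T' ∧ ∀ i : ℤ, i ≤ s → ∀ a ∈ J, ∀ x : Dual2.HDT A T K i, a • x = 0) ↔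
      ∀ (p q : PrimeSpectrum A) (hpq : p ≤ q), p ∉ T' → q ∈ T → ∀ h : ℕ, Order.height (⟨q, hpq⟩ : Set.Ici p) = h →
        ∀ i : ℤ, i ≤ s - h → Subsingleton (Dual2.HDI (Localization.AtPrime p.asIdeal)
          (IsLocalRing.maximalIdeal (Localization.AtPrime p.asIdeal))
          ((DRing.LBaseChange (algebraMap A (Localization.AtPrime p.asIdeal))).obj K) i) := by
  obtain ⟨P⟩ := nonempty_modelOf K a₀ hKa
  let L := P.cx (a₀ - 1) (by omega)
  have hL : ∀ (n : ℕ) (a : A) q, LK hω K (a₀ + n) a q ↔ Cond (L.g n) a q := fun n a q =>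
    (killed_HDI_iff_dual hω q K N hK (a₀ + n) a).symm.trans
      (killed_HDI_iff_cond P (a₀ - 1) (by omega) q a (a₀ + n) n (by push_cast; ring))
  have hlow : ∀ i < a₀, ∀ q, LK hω K i 1 q := fun i hi q =>
    (killed_HDI_iff_dual hω q K N hK i 1).1 ((killed_HDI_iff_cond P (i - 1) (by omega) q 1 i 0 (by simp)).2
      (by
        rw [← locKill_iff_cond]
        intro x
        haveI := P.subsingleton_HG_zero (T := zeroLocus (q.asIdeal : Set A)) i hi
        exact ⟨1, q.asIdeal.one_notMem, Subsingleton.elim _ _⟩))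
  have hsub : ∀ i (p : PrimeSpectrum A), Subsingleton (Dual2.HDI (Localization.AtPrime p.asIdeal)
      (IsLocalRing.maximalIdeal (Localization.AtPrime p.asIdeal))
      ((DRing.LBaseChange (algebraMap A (Localization.AtPrime p.asIdeal))).obj K) i) ↔ LK hω K i 1 p := fun i p => by
    refine Iff.trans ⟨fun h x => Subsingleton.elim _ _, fun h => subsingleton_of_forall_eq 0 fun x => ?_⟩
      (killed_HDI_iff_dual hω p K N hK i 1)
    have := h x
    rwa [map_one, one_smul] at this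
  have hrhs : DepthCond hω K T T' s ↔ ∀ (p q : PrimeSpectrum A) (hpq : p ≤ q), p ∉ T' → q ∈ T → ∀ h : ℕ,
      Order.height (⟨q, hpq⟩ : Set.Ici p) = h →
        ∀ i : ℤ, i ≤ s - h → Subsingleton (Dual2.HDI (Localization.AtPrime p.asIdeal)
          (IsLocalRing.maximalIdeal (Localization.AtPrime p.asIdeal))
          ((DRing.LBaseChange (algebraMap A (Localization.AtPrime p.asIdeal))).obj K) i) := by
    constructor
    · intro hd p q hpq hp hq h hh i hi
      have hdeg := (degS_strictMono hω).monotone hpq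
      simp only [degS] at hdeg
      rw [height_Ici hω hpq, Nat.cast_inj] at hh
      exact (hsub i p).2 (hd p q hp hq hpq i (by omega))
    · intro hr p q hp hq hpq i hi
      have hdeg := (degS_strictMono hω).monotone hpq
      simp only [degS] at hdeg
      exact (hsub i p).1 (hr p q hpq hp hq _ (height_Ici hω hpq) i (by omega))
  rw [← hrhs]
  by_cases hs : s < a₀
  · refine ⟨fun _ p q hp hq hpq i hi => hlow i ?_ p, fun _ => ⟨⊤, GrothLib.LCSupp.mem_top, fun i hi a _ x => ?_⟩⟩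
    · have hdeg := (degS_strictMono hω).monotone hpq
      simp only [degS] at hdeg
      omega
    · haveI := P.subsingleton_HDT hT i (lt_of_le_of_lt hi hs)
      exact Subsingleton.elim _ _
  obtain ⟨S, rfl⟩ : ∃ S : ℕ, s = a₀ + (S : ℤ) := ⟨(s - a₀).toNat, by omega⟩
  constructor
  · rintro ⟨J, hJ, hJk⟩
    refine depthCond_of_killer hω hK L a₀ hL hlow hT hT' S ⟨J, hJ, fun n hn a ha x => ?_⟩
    obtain ⟨e⟩ := P.nonempty_equiv (a₀ - 1) (by omega) hT (a₀ + n) n (by push_cast; ring)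
    obtain ⟨y, rfl⟩ := e.surjective x
    rw [← map_smul, hJk (a₀ + n) (by omega) a ha y, map_zero]
  · intro hd
    obtain ⟨J, hJ, hJk⟩ := exists_killer hω hK L a₀ hL hT hT' S hd
    refine ⟨J, hJ, fun i hi a ha x => ?_⟩
    by_cases hia : i < a₀
    · haveI := P.subsingleton_HDT hT i hia
      exact Subsingleton.elim _ _
    · obtain ⟨e⟩ := P.nonempty_equiv (a₀ - 1) (by omega) hT i (i - a₀).toNat (by push_cast; omega)
      refine e.injective ?_
      rw [map_smul, map_zero]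
      exact hJk _ (by omega) a ha _

end GrothLib.FaltingsD3
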