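import Groth.Agent.Lib.FaltingsD3.Complex

/-!
# Finiteness of cohomology with supports from annihilation
-/

set_option autoImplicit false
universe u

open PrimeSpectrum GrothLib.FaltingsT3

namespace GrothLib.FaltingsD3

variable {R : Type u} [CommRing R]

namespace Cx

variable (L : Cx R) (x : R)

/-- The terms of the fibre of multiplication by `x`. -/
noncomputable abbrev fibX : ℕ → ModuleCat.{u} R
  | 0 => L.X 0
  | n + 1 => ModuleCat.of R (L.X (n + 1) × L.X n)

/-- The differential of the fibre of multiplication by `x`. -/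
noncomputable def fibd : ∀ n, L.fibX n →ₗ[R] L.fibX (n + 1)
  | 0 => ((L.d 0).prod (x • LinearMap.id) : L.X 0 →ₗ[R] L.X 1 × L.X 0)
  | n + 1 => ((L.d (n + 1) ∘ₗ LinearMap.fst R _ _).prod
      (x • LinearMap.fst R _ _ - L.d n ∘ₗ LinearMap.snd R _ _) :
      L.X (n + 1) × L.X n →ₗ[R] L.X (n + 2) × L.X (n + 1))

/-- The fibre of multiplication by `x`. -/
noncomputable def fib : Cx R where
  X := L.fibX
  d := L.fibd x
  subsingleton_zero := L.subsingleton_zero
  baer
    | 0 => L.baer 0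
    | n + 1 => baer_prod (L.baer (n + 1)) (L.baer n)
  d_d
    | 0, u => Prod.ext (L.d_d 0 u) (by
        show x • L.d 0 u - L.d 0 (x • u) = 0
        rw [map_smul, sub_self])
    | n + 1, v => Prod.ext (L.d_d (n + 1) v.1) (by
        show x • L.d (n + 1) v.1 - L.d (n + 1) (x • v.1 - L.d n v.2) = 0
        rw [map_sub, map_smul, L.d_d, sub_zero, sub_self])

/-- The pair in the fibre. -/
noncomputable abbrev pair {n : ℕ} (u : L.X (n + 1)) (v : L.X n) : (L.fib x).X (n + 1) := (u, v)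

theorem d_pair {n : ℕ} (u : L.X (n + 1)) (v : L.X n) :
    (L.fib x).d (n + 1) (L.pair x u v) = L.pair x (L.d (n + 1) u) (x • u - L.d n v) := rfl

theorem d_zero (u : L.X 0) : (L.fib x).d 0 u = L.pair x (L.d 0 u) (x • u) := rfl

theorem pair_cases {n : ℕ} (z : (L.fib x).X (n + 1)) : ∃ u v, z = L.pair x u v := ⟨z.1, z.2, rfl⟩

theorem pair_inj {n : ℕ} {u u' : L.X (n + 1)} {v v' : L.X n} :
    L.pair x u v = L.pair x u' v' ↔ u = u' ∧ v = v' := Prod.ext_iff

theorem pair_mem_gam {T : Set (PrimeSpectrum R)} {n : ℕ} {u : L.X (n + 1)} {v : L.X n} :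
    L.pair x u v ∈ Gam T ((L.fib x).X (n + 1)) ↔ u ∈ Gam T (L.X (n + 1)) ∧ v ∈ Gam T (L.X n) :=
  mem_gam_prod

theorem smul_pair (a : R) {n : ℕ} (u : L.X (n + 1)) (v : L.X n) : a • L.pair x u v = L.pair x (a • u) (a • v) := rfl

theorem exists_lift_zero {n : ℕ} (e : L.X n) :
    ∃ E : (L.fib x).X n, (L.fib x).d n E = L.pair x (L.d n e) (x • e) ∧
      ∀ T : Set (PrimeSpectrum R), e ∈ Gam T (L.X n) → E ∈ Gam T ((L.fib x).X n) := by
  cases n with
  | zero => exact ⟨e, rfl, fun _ h => h⟩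
  | succ m =>
    exact ⟨L.pair x e 0, by rw [d_pair, map_zero, sub_zero],
      fun T h => (L.pair_mem_gam x).2 ⟨h, zero_mem _⟩⟩

variable {L x}

/-- Killing on the full cohomology. -/
def KilledH (L : Cx R) (a : R) : Prop :=
  ∀ n (u : L.X (n + 1)), L.d (n + 1) u = 0 → ∃ w, L.d n w = a • u

theorem killedH_fib_self : (L.fib x).KilledH x := by
  intro n z hz
  obtain ⟨u, v, rfl⟩ := L.pair_cases x z
  rw [d_pair] at hz
  obtain ⟨-, hv⟩ := (L.pair_inj x).1 (hz.trans (show (0 : (L.fib x).X (n + 2)) = L.pair x 0 0 from rfl))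
  obtain ⟨E, hE, -⟩ := L.exists_lift_zero x v
  exact ⟨E, by rw [hE, smul_pair, (sub_eq_zero.1 hv)]⟩

theorem killedH_fib {y : R} (h : L.KilledH y) : (L.fib x).KilledH (y * y) := by
  intro n z hz
  obtain ⟨u, v, rfl⟩ := L.pair_cases x z
  rw [d_pair] at hz
  obtain ⟨hu, hv⟩ := (L.pair_inj x).1 (hz.trans (show (0 : (L.fib x).X (n + 2)) = L.pair x 0 0 from rfl))
  obtain ⟨w, hw⟩ := h n u hu
  obtain ⟨E, hE, -⟩ := L.exists_lift_zero x (y • w)
  have hc : L.d n (y • v - x • w) = 0 := by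
    rw [map_sub, map_smul, map_smul, hw, ← sub_eq_zero.1 hv, smul_comm, sub_self]
  cases n with
  | zero =>
    refine ⟨E, ?_⟩
    rw [hE, smul_pair]
    refine (L.pair_inj x).2 ⟨by rw [map_smul, hw, mul_smul], ?_⟩
    exact L.eq_zero _ |>.trans (L.eq_zero _).symm
  | succ m =>
    obtain ⟨z, hz'⟩ := h m (y • v - x • w) hc
    refine ⟨E + L.pair x 0 (-z), ?_⟩
    rw [map_add, hE, d_pair, smul_pair, map_zero, smul_zero, map_neg, sub_neg_eq_add, zero_add]
    refine (L.pair_inj x).2 ⟨?_, ?_⟩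
    · rw [add_zero, map_smul, hw, mul_smul]
    · show x • y • w + L.d m z = (y * y) • v
      rw [hz', smul_sub, smul_comm x y w, mul_smul, add_sub_cancel]

variable (T : Set (PrimeSpectrum R))

theorem killed_fib {n : ℕ} {a b : R} (ha : ∀ z : L.HG T n, a • z = 0)
    (hb : ∀ m, n = m + 1 → ∀ z : L.HG T m, b • z = 0) : ∀ z : (L.fib x).HG T n, (b * a) • z = 0 := by
  rw [killed_iff] at ha ⊢
  intro z hz
  obtain ⟨u, v, huv⟩ := L.pair_cases x z.1
  have hzc : (L.fib x).d (n + 1) z.1 = 0 := z.2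
  rw [huv, d_pair] at hzc
  obtain ⟨hu, hv⟩ := (L.pair_inj x).1 (hzc.trans (show (0 : (L.fib x).X (n + 2)) = L.pair x 0 0 from rfl))
  have hg := ((L.fib x).mem_ZT T).1 hz
  rw [huv] at hg
  obtain ⟨hgu, hgv⟩ := (L.pair_mem_gam x).1 hg
  obtain ⟨w, hwT, hw⟩ := ha ⟨u, hu⟩ ((L.mem_ZT T).2 hgu)
  replace hw : L.d n w = a • u := congrArg Subtype.val hw
  obtain ⟨E, hE, hET⟩ := L.exists_lift_zero x (b • w)
  have hET' := hET T (Submodule.smul_mem _ b hwT)
  have hc : L.d n (a • v - x • w) = 0 := by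
    rw [map_sub, map_smul, map_smul, hw, ← sub_eq_zero.1 hv, smul_comm, sub_self]
  cases n with
  | zero =>
    refine ⟨E, hET', Subtype.ext ?_⟩
    show (L.fib x).d 0 E = (b * a) • z.1
    rw [hE, huv, smul_pair]
    exact (L.pair_inj x).2 ⟨by rw [map_smul, hw, mul_smul], (L.eq_zero _).trans (L.eq_zero _).symm⟩
  | succ m =>
    obtain ⟨y, hyT, hy⟩ := (killed_iff L T b).1 (hb m rfl) ⟨a • v - x • w, hc⟩
      ((L.mem_ZT T).2 (sub_mem (Submodule.smul_mem _ a hgv) (Submodule.smul_mem _ x hwT)))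
    replace hy : L.d m y = b • (a • v - x • w) := congrArg Subtype.val hy
    refine ⟨E + L.pair x 0 (-y), add_mem hET' ((L.pair_mem_gam x).2 ⟨zero_mem _, neg_mem hyT⟩), Subtype.ext ?_⟩
    show (L.fib x).d (m + 1) _ = (b * a) • z.1
    rw [map_add, hE, d_pair, huv, smul_pair, map_zero, smul_zero, map_neg, sub_neg_eq_add, zero_add]
    refine (L.pair_inj x).2 ⟨?_, ?_⟩
    · rw [add_zero, map_smul, hw, mul_smul]
    · show x • b • w + L.d m y = (b * a) • v
      rw [hy, smul_sub, smul_comm x b w, mul_smul, add_sub_cancel]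

theorem finite_fib [IsNoetherianRing R] (h : ∀ n, Module.Finite R (L.H n)) (n : ℕ) :
    Module.Finite R ((L.fib x).H n) := by
  haveI := h
  let p : (L.fib x).Z n →ₗ[R] L.Z n :=
    (((LinearMap.fst R (L.X (n + 1)) (L.X n)) : (L.fib x).X (n + 1) →ₗ[R] L.X (n + 1)).comp
      ((L.fib x).Z n).subtype).codRestrict _ fun z => congrArg Prod.fst (z.2 : (L.fib x).d (n + 1) z.1 = 0)
  have hp : LinearMap.range ((L.fib x).g n) ≤ (LinearMap.range (L.g n)).comap p := by
    rintro _ ⟨w, rfl⟩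
    cases n with
    | zero => exact ⟨w, Subtype.ext rfl⟩
    | succ m => exact ⟨w.1, Subtype.ext rfl⟩
  let pb := Submodule.mapQ _ _ p hp
  haveI : Module.Finite R (LinearMap.range pb) := Module.Finite.iff_fg.2 (IsNoetherian.noetherian _)
  suffices hk : Module.Finite R (LinearMap.ker pb) by
    have := Submodule.fg_of_fg_map_of_fg_inf_ker (R := R) pb (s := ⊤)
      (by rw [Submodule.map_top]; exact IsNoetherian.noetherian _)
      (by rw [top_inf_eq]; exact Module.Finite.iff_fg.1 hk)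
    exact Module.Finite.iff_fg.mpr this |>.equiv Submodule.topEquiv
  cases n with
  | zero =>
    haveI : Subsingleton (LinearMap.ker pb) := by
      refine subsingleton_of_forall_eq 0 ?_
      rintro ⟨z, hz⟩
      obtain ⟨z, rfl⟩ := Submodule.Quotient.mk_surjective _ z
      obtain ⟨w, hw⟩ := (Submodule.Quotient.mk_eq_zero _).1 (LinearMap.mem_ker.1 hz)
      have hw0 := L.eq_zero w
      subst hw0
      refine Subtype.ext ((Submodule.Quotient.mk_eq_zero _).2 ⟨0, Subtype.ext ?_⟩)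
      rw [map_zero]
      exact Prod.ext ((congrArg Subtype.val hw : L.d 0 0 = _)|> fun e => (map_zero (L.d 0)).symm.trans e)
        ((L.eq_zero _).trans (L.eq_zero _).symm)
    infer_instance
  | succ m =>
    let q : L.Z m →ₗ[R] (L.fib x).Z (m + 1) :=
      (((LinearMap.inr R (L.X (m + 2)) (L.X (m + 1))) : L.X (m + 1) →ₗ[R] (L.fib x).X (m + 2)).comp
        (L.Z m).subtype).codRestrict _ fun z => by
          show (L.fib x).d (m + 2) (L.pair x 0 z.1) = 0
          rw [d_pair, map_zero, smul_zero, show L.d (m + 1) z.1 = 0 from z.2, sub_zero]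
          rfl
    have hq : LinearMap.range (L.g m) ≤ (LinearMap.range ((L.fib x).g (m + 1))).comap q := by
      rintro _ ⟨w, rfl⟩
      refine ⟨L.pair x 0 (-w), Subtype.ext ?_⟩
      show (L.fib x).d (m + 1) (L.pair x 0 (-w)) = L.pair x 0 (L.d m w)
      rw [d_pair, map_zero, smul_zero, map_neg, sub_neg_eq_add, zero_add]
    let qb := Submodule.mapQ _ _ q hq
    have hle : LinearMap.ker pb ≤ LinearMap.range qb := by
      intro z hz
      obtain ⟨z, rfl⟩ := Submodule.Quotient.mk_surjective _ z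
      obtain ⟨w, hw⟩ := (Submodule.Quotient.mk_eq_zero _).1 (LinearMap.mem_ker.1 hz)
      obtain ⟨u, v, huv⟩ := L.pair_cases x z.1
      replace hw : L.d (m + 1) w = u := (congrArg Subtype.val hw).trans (congrArg Prod.fst huv)
      have hzc : (L.fib x).d (m + 2) z.1 = 0 := z.2
      rw [huv, d_pair] at hzc
      obtain ⟨-, hv⟩ := (L.pair_inj x).1 (hzc.trans (show (0 : (L.fib x).X (m + 3)) = L.pair x 0 0 from rfl))
      refine ⟨Submodule.Quotient.mk ⟨v - x • w, ?_⟩, (Submodule.Quotient.eq _).2 ⟨L.pair x (-w) 0, Subtype.ext ?_⟩⟩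
      · show L.d (m + 1) (v - x • w) = 0
        rw [map_sub, map_smul, hw, ← sub_eq_zero.1 hv, sub_self]
      · show (L.fib x).d (m + 1) (L.pair x (-w) 0) = L.pair x 0 (v - x • w) - z.1
        rw [huv, d_pair, map_neg, hw, map_zero, sub_zero]
        exact Prod.ext (zero_sub u).symm (by show x • -w = v - x • w - v; rw [smul_neg]; abel)
    haveI : Module.Finite R (LinearMap.range qb) := inferInstance
    exact Module.Finite.of_injective (Submodule.inclusion hle) (Submodule.inclusion_injective hle)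

/-- `u` with support up to a boundary. -/
def splitS (L : Cx R) (T : Set (PrimeSpectrum R)) : ∀ n, Submodule R (L.X n)
  | 0 => ⊤
  | n + 1 => Gam T (L.X (n + 1)) ⊔ LinearMap.range (L.d n)

theorem eq_zero_of_smul_quot {M : Type u} [AddCommGroup M] [Module R M] {J : Ideal R}
    (hJ : zeroLocus (J : Set R) ⊆ T) {m : M} (h : ∀ a ∈ J, a • m ∈ Gam T M) : m ∈ Gam T M := by
  intro r hr
  obtain ⟨a, haJ, har⟩ := SetLike.not_le_iff_exists.mp (fun hle : J ≤ r.asIdeal => hr (hJ hle))
  obtain ⟨s, hs, hs'⟩ := h a haJ r hr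
  exact ⟨s * a, r.isPrime.mul_notMem hs har, by rw [mul_smul]; exact hs'⟩

variable {T}

theorem mem_splitS [IsNoetherianRing R] (hT : StableUnderSpecialization T)
    (hH : ∀ n, ∃ J : Ideal R, zeroLocus (J : Set R) ⊆ T ∧ ∀ a ∈ J, ∀ u : L.X (n + 1), L.d (n + 1) u = 0 →
      ∃ w, L.d n w = a • u) :
    ∀ n, Module.Baer R (L.X n ⧸ L.splitS T n) ∧
      ∀ w : L.X n, L.d n w ∈ Gam T (L.X (n + 1)) → w ∈ L.splitS T n := by
  intro n
  induction n with
  | zero =>
    haveI : Subsingleton (L.X 0 ⧸ L.splitS T 0) := Submodule.Quotient.subsingleton_iff.2 rfl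
    exact ⟨baer_of_subsingleton, fun w _ => Submodule.mem_top⟩
  | succ n ih =>
    obtain ⟨hb, hP⟩ := ih
    let D : L.X n ⧸ L.splitS T n →ₗ[R] L.X (n + 1) ⧸ Gam T (L.X (n + 1)) :=
      (L.splitS T n).mapQ _ (L.d n) (by
        cases n with
        | zero => exact fun w _ => by rw [Submodule.mem_comap, L.eq_zero w, map_zero]; exact zero_mem _
        | succ m =>
          refine sup_le (fun w hw r hr => (hw r hr).map _) ?_
          rintro _ ⟨w, rfl⟩
          rw [Submodule.mem_comap, L.d_d]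
          exact zero_mem _)
    have hD : Function.Injective D := (injective_iff_map_eq_zero D).2 fun q hq => by
      obtain ⟨w, rfl⟩ := Submodule.Quotient.mk_surjective _ q
      exact (Submodule.Quotient.mk_eq_zero _).2 (hP w ((Submodule.Quotient.mk_eq_zero _).1 hq))
    have hbG : Module.Baer R (L.X (n + 1) ⧸ Gam T (L.X (n + 1))) :=
      baer_quotient _ (baer_gam hT (L.baer _)) (L.baer _)
    have hrange : LinearMap.range D = (L.splitS T (n + 1)).map (Gam T (L.X (n + 1))).mkQ := by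
      rw [show L.splitS T (n + 1) = Gam T (L.X (n + 1)) ⊔ LinearMap.range (L.d n) from rfl, Submodule.map_sup,
        Submodule.mkQ_map_self, bot_sup_eq, ← LinearMap.range_comp]
      exact Submodule.range_mapQ _ _ _ _ |>.trans (LinearMap.range_comp _ _).symm
    refine ⟨baer_of_equiv ((Submodule.quotEquivOfEq _ _ hrange).trans
      (Submodule.quotientQuotientEquivQuotient _ _ le_sup_left))
      (baer_quotient _ (baer_of_equiv (LinearEquiv.ofInjective D hD) hb) hbG), fun w hw => ?_⟩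
    obtain ⟨J₁, hJ₁, hw'⟩ := (mem_Gam_iff_exists hT).mp hw
    obtain ⟨J₂, hJ₂, hJ₂'⟩ := hH n
    have hJ := GrothLib.LCSupp.mem_mul hJ₂ hJ₁
    have hmem : ∀ a : (J₂ * J₁ : Ideal R),
        (a : R) • (Submodule.Quotient.mk w : L.X (n + 1) ⧸ Gam T (L.X (n + 1))) ∈ LinearMap.range D := by
      rintro ⟨a, ha⟩
      refine Submodule.mul_induction_on (C := fun a : R =>
        a • (Submodule.Quotient.mk w : L.X (n + 1) ⧸ Gam T (L.X (n + 1))) ∈ LinearMap.range D)
        ha (fun c hc b hb' => ?_) fun c b hc hb' => ?_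
      · obtain ⟨v, hv⟩ := hJ₂' c hc (b • w) (by rw [map_smul, hw' b hb'])
        exact ⟨Submodule.Quotient.mk v, by
          rw [mul_smul, ← Submodule.Quotient.mk_smul, ← Submodule.Quotient.mk_smul, ← hv]; rfl⟩
      · rw [add_smul]; exact add_mem hc hb'
    let φ : (J₂ * J₁ : Ideal R) →ₗ[R] L.X n ⧸ L.splitS T n :=
      (LinearEquiv.ofInjective D hD).symm.toLinearMap ∘ₗ
        ((LinearMap.toSpanSingleton R _ (Submodule.Quotient.mk w)).comp (J₂ * J₁).subtype).codRestrict _ hmem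
    obtain ⟨G, hG⟩ := hb _ φ
    obtain ⟨v, hv⟩ := Submodule.Quotient.mk_surjective _ (G 1)
    have hsub : w - L.d n v ∈ Gam T (L.X (n + 1)) := by
      refine eq_zero_of_smul_quot T hJ fun a ha => (Submodule.Quotient.mk_eq_zero _).1 ?_
      have h1 : D (a • G 1) = a • (Submodule.Quotient.mk w : L.X (n + 1) ⧸ Gam T (L.X (n + 1))) := by
        rw [← map_smul, smul_eq_mul, mul_one, hG a ha]
        exact congrArg Subtype.val ((LinearEquiv.ofInjective D hD).apply_symm_apply ⟨_, hmem ⟨a, ha⟩⟩)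
      rw [Submodule.Quotient.mk_smul, Submodule.Quotient.mk_sub, smul_sub, ← h1, ← hv, map_smul]
      exact sub_self _
    rw [show w = (w - L.d n v) + L.d n v from (sub_add_cancel _ _).symm]
    exact Submodule.add_mem_sup hsub ⟨v, rfl⟩

theorem finite_HG_of_supported [IsNoetherianRing R] (hT : StableUnderSpecialization T)
    (h : ∀ n, Module.Finite R (L.H n))
    (hH : ∀ n, ∃ J : Ideal R, zeroLocus (J : Set R) ⊆ T ∧ ∀ a ∈ J, ∀ u : L.X (n + 1), L.d (n + 1) u = 0 →
      ∃ w, L.d n w = a • u) (n : ℕ) : Module.Finite R (L.HG T n) := by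
  haveI := h n
  have hle : L.BT T n ≤ (LinearMap.range (L.g n)).comap (L.ZT T n).subtype :=
    fun z ⟨w, _, hw⟩ => ⟨w, hw⟩
  refine Module.Finite.of_injective (Submodule.mapQ (L.BT T n) _ (L.ZT T n).subtype hle)
    ((injective_iff_map_eq_zero _).2 fun q hq => ?_)
  obtain ⟨z, rfl⟩ := Submodule.Quotient.mk_surjective _ q
  obtain ⟨w, hw⟩ := (Submodule.Quotient.mk_eq_zero _).1 hq
  replace hw : L.d n w = z.1.1 := congrArg Subtype.val hw
  have hwS := (mem_splitS hT hH n).2 w (hw ▸ (L.mem_ZT T).1 z.2)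
  rw [mk_eq_zero]
  cases n with
  | zero => exact ⟨0, zero_mem _, by rw [← hw, L.eq_zero w]⟩
  | succ m =>
    obtain ⟨w', hw', _, ⟨v, rfl⟩, hsum⟩ := Submodule.mem_sup.1 hwS
    exact ⟨w', hw', by rw [← hw, ← hsum, map_add, L.d_d, add_zero]⟩

theorem finite_HG_of_fib {n : ℕ} (hx : ∀ z : L.HG T n, x • z = 0) [Module.Finite R ((L.fib x).HG T n)] :
    Module.Finite R (L.HG T n) := by
  let p : (L.fib x).ZT T n →ₗ[R] L.ZT T n :=
    ((((LinearMap.fst R (L.X (n + 1)) (L.X n)) : (L.fib x).X (n + 1) →ₗ[R] L.X (n + 1)).comp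
      ((L.fib x).Z n).subtype).codRestrict (L.Z n) fun z => congrArg Prod.fst (z.2 : (L.fib x).d (n + 1) z.1 = 0)).restrict
        fun z hz r hr => (hz r hr).map _
  have hp : (L.fib x).BT T n ≤ (L.BT T n).comap p := by
    rintro z ⟨w, hw, h⟩
    replace h : (L.fib x).d n w = z.1.1 := congrArg Subtype.val h
    cases n with
    | zero => exact ⟨w, hw, Subtype.ext (congrArg Prod.fst h)⟩
    | succ m => exact ⟨w.1, (mem_gam_prod.1 hw).1, Subtype.ext (congrArg Prod.fst h)⟩
  refine Module.Finite.of_surjective (Submodule.mapQ _ _ p hp) fun q => ?_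
  obtain ⟨z, rfl⟩ := Submodule.Quotient.mk_surjective _ q
  obtain ⟨w, hw, hwz⟩ := (killed_iff L T x).1 hx z.1 z.2
  replace hwz : L.d n w = x • z.1.1 := congrArg Subtype.val hwz
  have hc : (L.fib x).d (n + 1) (L.pair x z.1.1 w) = 0 := by
    rw [d_pair, hwz, sub_self, show L.d (n + 1) z.1.1 = 0 from z.1.2]
    rfl
  refine ⟨Submodule.Quotient.mk ⟨⟨_, hc⟩, ((L.fib x).mem_ZT T).2 ((L.pair_mem_gam x).2 ⟨(L.mem_ZT T).1 z.2, hw⟩)⟩,
    congrArg Submodule.Quotient.mk (Subtype.ext (Subtype.ext rfl))⟩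

/-- **Annihilation implies finiteness.** -/
theorem finite_HG_of_killed [IsNoetherianRing R] (hT : StableUnderSpecialization T) :
    ∀ (l : List R) (L : Cx R) (N : ℕ), (∀ n, Module.Finite R (L.H n)) →
      (∀ J : Ideal R, (∀ a ∈ l, a ∈ J.radical) → (∀ a, L.KilledH a → a ∈ J.radical) → zeroLocus (J : Set R) ⊆ T) →
      (∀ a ∈ l, ∀ n ≤ N, ∃ k : ℕ, ∀ z : L.HG T n, a ^ k • z = 0) →
      ∀ n ≤ N, Module.Finite R (L.HG T n) := by
  classical
  intro l
  induction l with
  | nil =>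
    intro L N hfin hsupp _ n _
    refine finite_HG_of_supported hT hfin (fun m => ?_) n
    let J : Ideal R := Ideal.span {a | L.KilledH a}
    refine ⟨J, hsupp J (fun a ha => absurd ha List.not_mem_nil)
      (fun a ha => Ideal.le_radical (Ideal.subset_span ha)), fun a ha u hu => ?_⟩
    induction ha using Submodule.span_induction with
    | mem b hb => exact hb m u hu
    | zero => exact ⟨0, by rw [map_zero, zero_smul]⟩
    | add p q _ _ hp hq =>
      obtain ⟨w, hw⟩ := hp
      obtain ⟨w', hw'⟩ := hq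
      exact ⟨w + w', by rw [map_add, hw, hw', add_smul]⟩
    | smul c p _ hp =>
      obtain ⟨w, hw⟩ := hp
      exact ⟨c • w, by rw [map_smul, hw, smul_eq_mul, mul_smul]⟩
  | cons a l ih =>
    intro L N hfin hsupp hk n hn
    choose k hk' using fun m : Fin (N + 1) => hk a List.mem_cons_self m.1 (Nat.lt_succ_iff.1 m.2)
    let x := a ^ (∑ m, k m)
    have hx : ∀ m ≤ N, ∀ z : L.HG T m, x • z = 0 := fun m hm z => by
      obtain ⟨j, hj⟩ := le_iff_exists_add'.1
        (Finset.single_le_sum (fun i _ => Nat.zero_le (k i)) (Finset.mem_univ (⟨m, Nat.lt_succ_of_le hm⟩ : Fin (N + 1))))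
      show a ^ (∑ m, k m) • z = 0
      rw [hj, pow_add, mul_smul, hk' ⟨m, Nat.lt_succ_of_le hm⟩ z, smul_zero]
    haveI := ih (L.fib x) N (finite_fib hfin)
      (fun J hl hJ => hsupp J (List.forall_mem_cons.2 ⟨Ideal.mem_radical_of_pow_mem (m := ∑ m, k m) (hJ x killedH_fib_self), hl⟩)
        fun b hb => Ideal.mem_radical_of_pow_mem (m := 2) (hJ _ (by rw [pow_two]; exact killedH_fib hb)))
      (fun b hb m hm => by
        obtain ⟨j, hj⟩ := hk b (List.mem_cons_of_mem _ hb) m hm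
        cases m with
        | zero => exact ⟨j, fun z => by simpa using killed_fib T (b := 1) hj (fun m h => absurd h (by omega)) z⟩
        | succ i =>
          obtain ⟨j', hj'⟩ := hk b (List.mem_cons_of_mem _ hb) i (Nat.le_of_succ_le hm)
          exact ⟨j' + j, fun z => by
            rw [pow_add]; exact killed_fib T hj (fun m h => by obtain rfl := Nat.succ_injective h; exact hj') z⟩) n hn
    exact finite_HG_of_fib (hx n hn)

/-- Finiteness in degrees `≤ N` is annihilation by an ideal with locus in `T`. -/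
theorem finite_HG_iff [IsNoetherianRing R] (hT : StableUnderSpecialization T) (h : ∀ n, Module.Finite R (L.H n)) (N : ℕ) :
    (∀ n ≤ N, Module.Finite R (L.HG T n)) ↔
      ∃ J : Ideal R, zeroLocus (J : Set R) ⊆ T ∧ ∀ n ≤ N, ∀ a ∈ J, ∀ z : L.HG T n, a • z = 0 := by
  classical
  constructor
  · intro hf
    choose J hJ hJk using fun m : Fin (N + 1) =>
      haveI := hf m.1 (Nat.lt_succ_iff.1 m.2)
      L.exists_killer_of_finite T hT (n := m.1)
    exact ⟨∏ m, J m, GrothLib.LCSupp.mem_prod _ _ fun m _ => hJ m, fun n hn a ha z =>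
      hJk ⟨n, Nat.lt_succ_of_le hn⟩ a (Ideal.le_of_dvd (Finset.dvd_prod_of_mem _ (Finset.mem_univ _)) ha) z⟩
  · rintro ⟨J, hJ, hk⟩
    obtain ⟨s, hs⟩ := (IsNoetherian.noetherian J : J.FG)
    refine finite_HG_of_killed hT s.toList L N h (fun J' hl _ => ?_)
      (fun a ha m hm => ⟨1, fun z => by
        rw [pow_one]; exact hk m hm a (hs ▸ Submodule.subset_span (Finset.mem_toList.1 ha)) z⟩)
    refine subset_trans ?_ hJ
    rw [← zeroLocus_radical]
    refine zeroLocus_anti_mono_ideal (R := R) ?_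
    rw [← hs]
    exact Submodule.span_le.2 fun a ha => hl a (Finset.mem_toList.2 ha)

end Cx

end GrothLib.FaltingsD3
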