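import Groth.Agent.Lib.FaltingsD3.Model
import Groth.Agent.Lib.FaltingsD3.Finite

/-!
# Bounded below objects with finite cohomology as complexes of injective modules
-/

set_option autoImplicit false
set_option linter.style.haveILetI false
universe u

open CategoryTheory Limits HomologicalComplex PrimeSpectrum GrothLib.RGamma

attribute [local instance] HasDerivedCategory.standard

namespace GrothLib.FaltingsD3

variable {A : Type u} [CommRing A] (K : Dual.D A) (a : ℤ)

theorem isGE_of_subsingleton (hKa : ∀ i : ℤ, i < a → Subsingleton (Dual.HD A K i)) : K.IsGE a := by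
  rw [DerivedCategory.isGE_iff]
  intro i hi
  haveI := hKa i hi
  exact ModuleCat.isZero_of_subsingleton _

/-- A model of `K`, with everything that is needed about it. -/
structure ModelOf (K : Dual.D A) (a : ℤ) where
  /-- the complex -/
  C : CochainComplex (ModuleCat.{u} A) ℤ
  ge : C.IsStrictlyGE a
  inj : ∀ m, Injective (C.X m)
  /-- the comparison -/
  k : DerivedCategory.Q.obj C ≅ K

theorem nonempty_modelOf (hKa : ∀ i : ℤ, i < a → Subsingleton (Dual.HD A K i)) : Nonempty (ModelOf K a) := by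
  haveI := isGE_of_subsingleton K a hKa
  obtain ⟨C, hC, hinj, ⟨k⟩⟩ := GrothLib.CohDer19.InjAmp.exists_injective_rep K a
  exact ⟨⟨C, hC, hinj, k⟩⟩

variable {K a}

theorem ModelOf.ge' (P : ModelOf K a) (b : ℤ) (hb : b < a) : P.C.IsStrictlyGE (b + 1) :=
  haveI := P.ge
  P.C.isStrictlyGE_of_ge (b + 1) a (by omega)

/-- The `ℕ`-indexed complex. -/
noncomputable def ModelOf.cx (P : ModelOf K a) (b : ℤ) (hb : b < a) : Cx A :=
  haveI := P.ge' b hb
  ofCochain P.C b P.inj

variable {T : Set (PrimeSpectrum A)}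

theorem ModelOf.nonempty_equiv (P : ModelOf K a) (b : ℤ) (hb : b < a) (hT : StableUnderSpecialization T)
    (i : ℤ) (m : ℕ) (hi : i = b + ((m + 1 : ℕ) : ℤ)) :
    Nonempty (Dual2.HDT A T K i ≃ₗ[A] (P.cx b hb).HG T m) :=
  haveI := P.ge' b hb
  nonempty_HDT_equiv T P.C b P.inj hT P.k i m hi

theorem ModelOf.nonempty_equivI [IsNoetherianRing A] (P : ModelOf K a) (b : ℤ) (hb : b < a) (I : Ideal A)
    (i : ℤ) (m : ℕ) (hi : i = b + ((m + 1 : ℕ) : ℤ)) :
    Nonempty (Dual2.HDI A I K i ≃ₗ[A] (P.cx b hb).HG (zeroLocus (I : Set A)) m) :=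
  haveI := P.ge' b hb
  nonempty_HDI_equiv P.C b P.inj I P.k i m hi

theorem ModelOf.subsingleton_HG_zero (P : ModelOf K a) (i : ℤ) (hi : i < a) :
    Subsingleton ((P.cx (i - 1) (by omega)).HG T 0) := by
  haveI := P.ge
  haveI : Subsingleton ((P.cx (i - 1) (by omega)).X (0 + 1)) :=
    ModuleCat.subsingleton_of_isZero
      (CochainComplex.isZero_of_isStrictlyGE P.C a (i - 1 + ((0 + 1 : ℕ) : ℤ)) (by push_cast; omega))
  exact Quotient.instSubsingletonQuotient _

theorem ModelOf.subsingleton_HDT (P : ModelOf K a) (hT : StableUnderSpecialization T) (i : ℤ) (hi : i < a) :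
    Subsingleton (Dual2.HDT A T K i) := by
  obtain ⟨e⟩ := P.nonempty_equiv (i - 1) (by omega) hT i 0 (by simp)
  haveI := P.subsingleton_HG_zero (T := T) i hi
  exact e.toEquiv.subsingleton

theorem ModelOf.finite_H (P : ModelOf K a) (hK : ∀ i : ℤ, Module.Finite A (Dual.HD A K i)) (b : ℤ) (hb : b < a)
    (m : ℕ) : Module.Finite A ((P.cx b hb).H m) := by
  haveI := P.ge' b hb
  obtain ⟨e⟩ := nonempty_H_equiv P.C b P.inj m
  haveI := hK (b + ((m + 1 : ℕ) : ℤ))
  exact Module.Finite.equiv ((hdIso P.k _).symm.trans ((hdEquiv P.C _).trans e.symm))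

end GrothLib.FaltingsD3
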