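import Groth.Agent.Lib.FaltingsT3.Global

/-!
# Sections with supports of complexes of injective modules, indexed by `ℕ`
-/

set_option autoImplicit false
universe u

open PrimeSpectrum GrothLib.FaltingsT3

namespace GrothLib.FaltingsD3

variable {R : Type u} [CommRing R]

section baer

variable {E : Type u} [AddCommGroup E] [Module R E]

theorem baer_gam [IsNoetherianRing R] {T : Set (PrimeSpectrum R)} (hT : StableUnderSpecialization T)
    (hE : Module.Baer R E) : Module.Baer R (Gam T E) := by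
  intro 𝔞 f
  obtain ⟨s, hs⟩ := (IsNoetherian.noetherian 𝔞 : 𝔞.FG)
  choose J hJ hJf using fun x : {x // x ∈ s} =>
    (mem_Gam_iff_exists hT).mp (f ⟨x.1, hs ▸ Submodule.subset_span x.2⟩).2
  let K : Ideal R := ∏ x ∈ s.attach, J x
  have hK : zeroLocus (K : Set R) ⊆ T := GrothLib.LCSupp.mem_prod _ _ fun x _ => hJ x
  have hKf : ∀ a ∈ K, ∀ y : 𝔞, a • f y = 0 := by
    intro a ha y
    obtain ⟨y, hy⟩ := y
    have hy' : y ∈ Submodule.span R (s : Set R) := hs.ge hy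
    induction hy' using Submodule.span_induction with
    | mem x hx =>
      exact Subtype.ext (hJf ⟨x, hx⟩ a (Ideal.le_of_dvd (Finset.dvd_prod_of_mem _ (Finset.mem_attach _ ⟨x, hx⟩)) ha))
    | zero => exact (congrArg (a • ·) (f.map_zero)).trans (smul_zero a)
    | add p q hp hq h h' =>
      have e : f ⟨p + q, hy⟩ = f ⟨p, hs.le hp⟩ + f ⟨q, hs.le hq⟩ := f.map_add ⟨p, hs.le hp⟩ ⟨q, hs.le hq⟩
      rw [e, smul_add, h _, h' _, add_zero]
    | smul c p hp h =>
      have e : f ⟨c • p, hy⟩ = c • f ⟨p, hs.le hp⟩ := f.map_smul c ⟨p, hs.le hp⟩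
      rw [e, smul_comm, h _, smul_zero]
  obtain ⟨k, hk⟩ := Ideal.exists_pow_inf_eq_pow_smul K 𝔞
  let L : Ideal R := K ^ (k + 1)
  have hkill : ∀ y : 𝔞, (y : R) ∈ L → f y = 0 := by
    intro y hy
    have h1 : L ⊓ 𝔞 ≤ K * 𝔞 := by
      have := hk (k + 1) (Nat.le_succ k)
      simp only [smul_eq_mul, Ideal.mul_top, Nat.add_sub_cancel_left, pow_one] at this
      rw [show L = K ^ (k + 1) from rfl, this]
      exact Ideal.mul_mono_right inf_le_right
    obtain ⟨y, hya⟩ := y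
    have h2 : y ∈ K * 𝔞 := h1 ⟨hy, hya⟩
    clear hy
    induction h2 using Submodule.mul_induction_on' with
    | mem_mul_mem a ha b hb =>
      have e : f ⟨a * b, hya⟩ = a • f ⟨b, hb⟩ := f.map_smul a ⟨b, hb⟩
      rw [e]
      exact hKf a ha _
    | add p hp q hq h h' =>
      have e : f ⟨p + q, hya⟩ = f ⟨p, Ideal.mul_le_right hp⟩ + f ⟨q, Ideal.mul_le_right hq⟩ :=
        f.map_add ⟨p, Ideal.mul_le_right hp⟩ ⟨q, Ideal.mul_le_right hq⟩
      rw [e, h _, h' _, add_zero]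
  let π : 𝔞 × L →ₗ[R] (𝔞 ⊔ L : Ideal R) :=
    (Submodule.inclusion (le_sup_left : 𝔞 ≤ 𝔞 ⊔ L)).coprod (Submodule.inclusion (le_sup_right : L ≤ 𝔞 ⊔ L))
  have hπ : Function.Surjective π := fun z => by
    obtain ⟨y, hy, l, hl, h⟩ := Submodule.mem_sup.1 z.2
    exact ⟨(⟨y, hy⟩, ⟨l, hl⟩), Subtype.ext h⟩
  let φ : 𝔞 × L →ₗ[R] E := ((Gam T E).subtype ∘ₗ f).coprod 0
  have hker : LinearMap.ker π ≤ LinearMap.ker φ := by
    rintro ⟨y, l⟩ h
    have h' : (y : R) + (l : R) = 0 := congrArg Subtype.val h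
    have : (y : R) ∈ L := by
      rw [eq_neg_of_add_eq_zero_left h']
      exact neg_mem l.2
    rw [LinearMap.mem_ker]
    simp [φ, hkill y this]
  let F : (𝔞 ⊔ L : Ideal R) →ₗ[R] E :=
    (LinearMap.ker π).liftQ φ hker ∘ₗ (π.quotKerEquivOfSurjective hπ).symm.toLinearMap
  have hF : ∀ z, F (π z) = φ z := fun z => by
    show (LinearMap.ker π).liftQ φ hker ((π.quotKerEquivOfSurjective hπ).symm (π z)) = φ z
    rw [(LinearEquiv.symm_apply_eq _).2 (show π z = π.quotKerEquivOfSurjective hπ (Submodule.Quotient.mk z) from rfl)]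
    rfl
  obtain ⟨G, hG⟩ := hE _ F
  have hG1 : G 1 ∈ Gam T E := by
    refine (mem_Gam_iff_exists hT).mpr ⟨L, GrothLib.LCSupp.mem_pow hK (k + 1), fun a ha => ?_⟩
    rw [← map_smul, smul_eq_mul, mul_one, hG a (le_sup_right (a := 𝔞) ha),
      show (⟨a, le_sup_right (a := 𝔞) ha⟩ : (𝔞 ⊔ L : Ideal R)) = π ((0 : 𝔞), ⟨a, ha⟩) from
        Subtype.ext (zero_add a).symm, hF]
    simp [φ]
  refine ⟨LinearMap.toSpanSingleton R _ ⟨G 1, hG1⟩, fun y hy => Subtype.ext ?_⟩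
  show y • G 1 = (f ⟨y, hy⟩ : E)
  rw [← map_smul, smul_eq_mul, mul_one, hG y (le_sup_left (b := L) hy),
    show (⟨y, le_sup_left (b := L) hy⟩ : (𝔞 ⊔ L : Ideal R)) = π (⟨y, hy⟩, (0 : L)) from
      Subtype.ext (add_zero y).symm, hF]
  simp [φ]

theorem baer_quotient (N : Submodule R E) (hN : Module.Baer R N) (hE : Module.Baer R E) :
    Module.Baer R (E ⧸ N) := by
  obtain ⟨r, hr⟩ := hN.extension_property N.subtype Subtype.val_injective LinearMap.id
  let s : E ⧸ N →ₗ[R] E := N.liftQ (LinearMap.id - N.subtype ∘ₗ r) fun x hx => by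
    have h := LinearMap.congr_fun hr ⟨x, hx⟩
    rw [LinearMap.mem_ker]
    simp only [LinearMap.sub_apply, LinearMap.id_apply, LinearMap.comp_apply]
    rw [show r x = ⟨x, hx⟩ from h]
    exact sub_self x
  have hs : ∀ z, N.mkQ (s z) = z := fun z => by
    obtain ⟨x, rfl⟩ := Submodule.Quotient.mk_surjective N z
    show Submodule.Quotient.mk (x - (r x : E)) = _
    rw [Submodule.Quotient.eq, sub_sub_cancel_left]
    exact neg_mem (r x).2
  intro 𝔞 f
  obtain ⟨G, hG⟩ := hE 𝔞 (s ∘ₗ f)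
  exact ⟨N.mkQ ∘ₗ G, fun x hx => (congrArg N.mkQ (hG x hx)).trans (hs _)⟩

theorem baer_of_equiv {E' : Type u} [AddCommGroup E'] [Module R E'] (e : E ≃ₗ[R] E') (hE : Module.Baer R E) :
    Module.Baer R E' := fun 𝔞 f => by
  obtain ⟨G, hG⟩ := hE 𝔞 (e.symm.toLinearMap ∘ₗ f)
  exact ⟨e.toLinearMap ∘ₗ G, fun x hx => (congrArg e (hG x hx)).trans (e.apply_symm_apply _)⟩

theorem baer_of_subsingleton [Subsingleton E] : Module.Baer R E := fun _ _ =>
  ⟨0, fun _ _ => Subsingleton.elim _ _⟩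

theorem baer_prod {E' : Type u} [AddCommGroup E'] [Module R E'] (hE : Module.Baer R E) (hE' : Module.Baer R E') :
    Module.Baer R (E × E') := fun 𝔞 f => by
  obtain ⟨G, hG⟩ := hE 𝔞 (LinearMap.fst R E E' ∘ₗ f)
  obtain ⟨G', hG'⟩ := hE' 𝔞 (LinearMap.snd R E E' ∘ₗ f)
  exact ⟨G.prod G', fun x hx => Prod.ext (hG x hx) (hG' x hx)⟩

theorem mem_gam_prod {T : Set (PrimeSpectrum R)} {E' : Type u} [AddCommGroup E'] [Module R E'] {x : E × E'} :
    x ∈ Gam T (E × E') ↔ x.1 ∈ Gam T E ∧ x.2 ∈ Gam T E' := by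
  refine ⟨fun h => ⟨fun r hr => (h r hr).map (LinearMap.fst R E E'), fun r hr => (h r hr).map (LinearMap.snd R E E')⟩,
    fun ⟨h, h'⟩ r hr => ?_⟩
  have e : x = LinearMap.inl R E E' x.1 + LinearMap.inr R E E' x.2 := by simp
  rw [e]
  exact ((h r hr).map _).add ((h' r hr).map _)

end baer

/-- A complex of injective modules in degrees `≥ 1`. -/
structure Cx (R : Type u) [CommRing R] where
  /-- terms -/
  X : ℕ → ModuleCat.{u} R
  /-- differential -/
  d : ∀ n, X n →ₗ[R] X (n + 1)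
  d_d : ∀ n (x : X n), d (n + 1) (d n x) = 0
  baer : ∀ n, Module.Baer R (X n)
  subsingleton_zero : Subsingleton (X 0)

namespace Cx

variable (L : Cx R)

theorem eq_zero (x : L.X 0) : x = 0 := L.subsingleton_zero.elim _ _

/-- Cocycles in degree `n + 1`. -/
abbrev Z (n : ℕ) : Submodule R (L.X (n + 1)) := LinearMap.ker (L.d (n + 1))

/-- The differential into the cocycles. -/
noncomputable def g (n : ℕ) : L.X n →ₗ[R] L.Z n := (L.d n).codRestrict _ fun x => L.d_d n x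

/-- Cohomology in degree `n + 1`. -/
noncomputable abbrev H (n : ℕ) : Type u := L.Z n ⧸ LinearMap.range (L.g n)

variable (T : Set (PrimeSpectrum R))

/-- Cocycles with supports in degree `n + 1`. -/
abbrev ZT (n : ℕ) : Submodule R (L.Z n) := Gam T (L.Z n)

/-- Boundaries with supports in degree `n + 1`. -/
noncomputable abbrev BT (n : ℕ) : Submodule R (L.ZT T n) := ((Gam T (L.X n)).map (L.g n)).comap (L.ZT T n).subtype

/-- Cohomology with supports in degree `n + 1`. -/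
noncomputable abbrev HG (n : ℕ) : Type u := L.ZT T n ⧸ L.BT T n

theorem g_mem {n : ℕ} {x : L.X n} (hx : x ∈ Gam T (L.X n)) : L.g n x ∈ L.ZT T n :=
  fun r hr => (hx r hr).map _

theorem mem_ZT {n : ℕ} {z : L.Z n} : z ∈ L.ZT T n ↔ (z : L.X (n + 1)) ∈ Gam T (L.X (n + 1)) := by
  refine ⟨fun h r hr => (h r hr).map (L.Z n).subtype, fun h r hr => ?_⟩
  obtain ⟨s, hs, hsz⟩ := h r hr
  exact ⟨s, hs, Subtype.ext hsz⟩

theorem mk_eq_zero {n : ℕ} {z : L.ZT T n} :
    (Submodule.Quotient.mk z : L.HG T n) = 0 ↔ ∃ w ∈ Gam T (L.X n), L.d n w = (z.1 : L.X (n + 1)) := by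
  rw [Submodule.Quotient.mk_eq_zero]
  exact ⟨fun ⟨w, hw, h⟩ => ⟨w, hw, congrArg Subtype.val h⟩, fun ⟨w, hw, h⟩ => ⟨w, hw, Subtype.ext h⟩⟩

theorem killed_iff {n : ℕ} (a : R) :
    (∀ x : L.HG T n, a • x = 0) ↔
      ∀ z ∈ L.ZT T n, ∃ w ∈ Gam T (L.X n), L.g n w = a • z := by
  constructor
  · intro h z hz
    have := h (Submodule.Quotient.mk ⟨z, hz⟩)
    rw [← Submodule.Quotient.mk_smul, mk_eq_zero] at this
    obtain ⟨w, hw, hwz⟩ := this
    exact ⟨w, hw, Subtype.ext hwz⟩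
  · intro h x
    obtain ⟨z, rfl⟩ := Submodule.Quotient.mk_surjective _ x
    rw [← Submodule.Quotient.mk_smul, mk_eq_zero]
    obtain ⟨w, hw, hwz⟩ := h z.1 z.2
    exact ⟨w, hw, congrArg Subtype.val hwz⟩

theorem exists_killer_of_finite (hT : StableUnderSpecialization T) {n : ℕ} [Module.Finite R (L.HG T n)] :
    ∃ J : Ideal R, zeroLocus (J : Set R) ⊆ T ∧ ∀ a ∈ J, ∀ x : L.HG T n, a • x = 0 := by
  obtain ⟨s, hs⟩ := (Module.Finite.fg_top : (⊤ : Submodule R (L.HG T n)).FG)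
  choose z hz using fun x : {x // x ∈ s} => Submodule.Quotient.mk_surjective (L.BT T n) x.1
  choose J hJ hJz using fun x : {x // x ∈ s} => (mem_Gam_iff_exists hT).mp (z x).2
  refine ⟨∏ x ∈ s.attach, J x, GrothLib.LCSupp.mem_prod _ _ fun x _ => hJ x, fun a ha x => ?_⟩
  have hx : x ∈ Submodule.span R (s : Set (L.HG T n)) := hs ▸ Submodule.mem_top
  induction hx using Submodule.span_induction with
  | mem y hy =>
    rw [← show (Submodule.Quotient.mk (z ⟨y, hy⟩) : L.HG T n) = y from hz ⟨y, hy⟩, ← Submodule.Quotient.mk_smul,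
      show a • z ⟨y, hy⟩ = 0 from Subtype.ext (hJz ⟨y, hy⟩ a
        (Ideal.le_of_dvd (Finset.dvd_prod_of_mem _ (Finset.mem_attach _ ⟨y, hy⟩)) ha))]
    exact Submodule.Quotient.mk_zero _
  | zero => exact smul_zero a
  | add p q _ _ h h' => rw [smul_add, h, h', add_zero]
  | smul c p _ h => rw [smul_comm, h, smul_zero]

end Cx

end GrothLib.FaltingsD3
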