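import Groth.Agent.Lib.FaltingsT3.Duality
import Groth.Agent.Lib.HDIRestrict3.Flat
import Groth.Agent.Lib.FaltingsD3.Bridge

/-!
# The pointwise criterion for complexes and the dual
-/

set_option autoImplicit false
set_option linter.style.haveILetI false
universe u w

open CategoryTheory CategoryTheory.Limits TensorProduct PrimeSpectrum GrothLib.DualCx22 GrothLib.DualRing GrothLib.FaltingsT3

attribute [local instance] HasDerivedCategory.standard

namespace GrothLib.FaltingsD3

variable {A : Type u} [CommRing A] [IsNoetherianRing A]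

omit [IsNoetherianRing A] in
theorem killed_tensor_iff (q : PrimeSpectrum A) (M : Type w) [AddCommGroup M] [Module A M] (a : A) :
    (∀ y : Rq q ⊗[A] M, algebraMap A (Rq q) a • y = 0) ↔ ∀ x : M, ∃ s, s ∉ q.asIdeal ∧ s • a • x = 0 := by
  haveI : IsLocalizedModule q.asIdeal.primeCompl (TensorProduct.mk A (Rq q) M 1) :=
    (isLocalizedModule_iff_isBaseChange q.asIdeal.primeCompl (Rq q) _).2 (TensorProduct.isBaseChange A _ (Rq q))
  constructor
  · intro h x
    have h0 : TensorProduct.mk A (Rq q) M 1 (a • x) = 0 := by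
      rw [map_smul, TensorProduct.mk_apply, ← algebraMap_smul (Rq q) a]
      exact h _
    obtain ⟨s, hs⟩ := (IsLocalizedModule.eq_zero_iff q.asIdeal.primeCompl _).1 h0
    exact ⟨s, s.2, hs⟩
  · intro h y
    rw [algebraMap_smul]
    induction y with
    | zero => rw [smul_zero]
    | add y z hy hz => rw [smul_add, hy, hz, add_zero]
    | tmul c x =>
      obtain ⟨s, hs, hs'⟩ := h x
      have h0 : TensorProduct.mk A (Rq q) M 1 (a • x) = 0 :=
        (IsLocalizedModule.eq_zero_iff q.asIdeal.primeCompl _).2 ⟨⟨s, hs⟩, hs'⟩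
      rw [← TensorProduct.tmul_smul, show c ⊗ₜ[A] (a • x) = c • ((1 : Rq q) ⊗ₜ[A] (a • x)) by
        rw [TensorProduct.smul_tmul', smul_eq_mul, mul_one]]
      rw [TensorProduct.mk_apply] at h0
      rw [h0, smul_zero]

omit [IsNoetherianRing A] in
theorem killed_extend_iff (q : PrimeSpectrum A) (M : ModuleCat.{w} A) (a : A) :
    (∀ y : (ModuleCat.extendScalars.{u, u, w} (algebraMap A (Rq q))).obj M, algebraMap A (Rq q) a • y = 0) ↔
      ∀ x : M, ∃ s, s ∉ q.asIdeal ∧ s • a • x = 0 := by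
  rw [← killed_tensor_iff]
  suffices key : ∀ (inst : Algebra A (Rq q)) (φ : A →+* Rq q), inst = φ.toAlgebra →
      ((∀ y : (ModuleCat.extendScalars.{u, u, w} φ).obj M, φ a • y = 0) ↔
        ∀ y : @TensorProduct A _ (Rq q) M _ _ inst.toModule _, φ a • y = 0) from
    key inferInstance (algebraMap A (Rq q)) (Algebra.algebra_ext _ _ fun _ => rfl)
  rintro inst φ rfl
  exact Iff.rfl

theorem locKill_iff_cond (L : Cx A) (n : ℕ) (a : A) (q : PrimeSpectrum A) :
    (∀ x : L.HG (zeroLocus (q.asIdeal : Set A)) n, ∃ s, s ∉ q.asIdeal ∧ s • a • x = 0) ↔ Cond (L.g n) a q := by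
  constructor
  · intro h m hm
    obtain ⟨u, hu, hum⟩ := exists_supported hm
    obtain ⟨s, hs, hsx⟩ := h (Submodule.Quotient.mk ⟨u • m, fun r hr => hum r hr⟩)
    rw [← Submodule.Quotient.mk_smul, ← Submodule.Quotient.mk_smul, Cx.mk_eq_zero] at hsx
    obtain ⟨w, hw, hwm⟩ := hsx
    refine ⟨w, s * u, q.isPrime.mul_notMem hs hu, fun r hr => hw r (fun h => hr.not_ge h), Subtype.ext ?_⟩
    show (s * u) • a • (m : L.X (n + 1)) = L.d n w
    rw [hwm, mul_smul, smul_comm u a]
    rfl
  · intro h x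
    obtain ⟨z, rfl⟩ := Submodule.Quotient.mk_surjective _ x
    obtain ⟨e, s, hs, he, hse⟩ := h z.1 fun r hr => z.2 r (fun h => hr.not_ge h)
    obtain ⟨u, hu, hue⟩ := exists_supported he
    refine ⟨u * s, q.isPrime.mul_notMem hu hs, ?_⟩
    rw [← Submodule.Quotient.mk_smul, ← Submodule.Quotient.mk_smul, Cx.mk_eq_zero]
    refine ⟨u • e, fun r hr => hue r hr, ?_⟩
    show L.d n (u • e) = (u * s) • a • (z.1 : L.X (n + 1))
    rw [map_smul, show L.d n e = s • a • (z.1 : L.X (n + 1)) from (congrArg Subtype.val hse).symm, ← mul_smul]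

variable {K : Dual.D A} {a₀ : ℤ}

/-- The local cohomology of the localised complex. -/
theorem killed_HDI_iff_cond (P : ModelOf K a₀) (b : ℤ) (hb : b < a₀) (q : PrimeSpectrum A)
    [DRing.HasLBaseChange (algebraMap A (Rq q))] (a : A) (i : ℤ) (m : ℕ) (hi : i = b + ((m + 1 : ℕ) : ℤ)) :
    (∀ x : Dual2.HDI (Rq q) (IsLocalRing.maximalIdeal (Rq q)) ((DRing.LBaseChange (algebraMap A (Rq q))).obj K) i,
        algebraMap A (Rq q) a • x = 0) ↔ Cond ((P.cx b hb).g m) a q := by
  haveI : Module.Flat A (Rq q) := IsLocalization.flat (Rq q) q.asIdeal.primeCompl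
  obtain ⟨e₁⟩ := GrothLib.HDIRestrict3.nonempty_HDI_LBaseChange (A := A) (B := Rq q) q.asIdeal K i
  obtain ⟨e₂⟩ := P.nonempty_equivI b hb q.asIdeal i m hi
  rw [← locKill_iff_cond, ← killed_extend_iff q (ModuleCat.of A ((P.cx b hb).HG (zeroLocus (q.asIdeal : Set A)) m)) a,
    ← Localization.AtPrime.map_eq_maximalIdeal (I := q.asIdeal)]
  let e := e₁.toLinearEquiv.trans (GrothLib.HDIRestrict3.extendEquiv (algebraMap A (Rq q))
      (N := ModuleCat.of A ((P.cx b hb).HG (zeroLocus (q.asIdeal : Set A)) m)) e₂)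
  refine ⟨fun h y => ?_, fun h x => e.injective ?_⟩
  · obtain ⟨x, rfl⟩ := e.surjective y
    exact (e.map_smul _ x).symm.trans ((congrArg e (h x)).trans e.map_zero)
  · exact ((e.map_smul _ x).trans (h _)).trans e.map_zero.symm

variable {ω : Dual.D A} (hω : Dual.IsDualizing A ω)

include hω in
/-- The dual localised at a prime, for a complex. -/
theorem exists_localized_EH_equivD (p : PrimeSpectrum A) [DRing.HasLBaseChange (algebraMap A (Rq p))]
    (K : Dual.D A) (N : ℤ) [K.IsLE N] (hK : ∀ i, Module.Finite A (Dual.HD A K i)) :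
    ∃ ω' : Dual.D (Rq p), Dual.IsDualizing (Rq p) ω' ∧ Dual.IsNormalized (Rq p) ω' ∧
      (∀ i, Module.Finite (Rq p) (Dual.HD (Rq p) ((DRing.LBaseChange (algebraMap A (Rq p))).obj K) i)) ∧
      ∀ i, Nonempty (EH ω' ((DRing.LBaseChange (algebraMap A (Rq p))).obj K) i ≃ₗ[Rq p]
        Rq p ⊗[A] EH ω K (deg hω p.asIdeal + i)) := by
  let B := Rq p
  haveI : Module.Flat A B := IsLocalization.flat B p.asIdeal.primeCompl
  haveI := GrothLib.DR.preservesFiniteLimits_extendScalars (algebraMap A B) GrothLib.DR.flat_algebraMap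
  obtain ⟨a, b, hab⟩ := hω.finite_injective_dimension
  haveI : ω.IsGE a := isGE_of_hom_ring ω a fun i hi => hab A i (Or.inl hi)
  have hωB : Dual.IsDualizing B ((bcD B).obj ω) :=
    isDualizing_bcD_localization p.asIdeal.primeCompl B hω
  have hmax : IsLocalRing.maximalIdeal B = p.asIdeal.map (algebraMap A B) :=
    Localization.AtPrime.map_eq_maximalIdeal.symm
  have hc : deg hωB (IsLocalRing.maximalIdeal B) = deg hω p.asIdeal := by
    by_contra hne
    refine (mu_ne_zero_iff hωB (IsLocalRing.maximalIdeal B) _).2 rfl ?_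
    haveI : Subsingleton (B ⊗[A] EH ω (Dual.inD A (A ⧸ p.asIdeal)) (deg hωB (IsLocalRing.maximalIdeal B))) :=
      subsingleton_tensor_of_killed B fun y => by
        obtain ⟨s, hs, hsy⟩ := len_eq_zero_iff.1 (mu_ne_deg hω p.asIdeal hne) y
        exact ⟨s, IsLocalization.map_units B (⟨s, hs⟩ : p.asIdeal.primeCompl), hsy⟩
    haveI := (nonempty_equiv_quotient_bcD B ω a p.asIdeal (deg hωB (IsLocalRing.maximalIdeal B))).some.toEquiv.subsingleton
    have h : ∀ (J : Ideal B), J = p.asIdeal.map (algebraMap A B) →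
        Subsingleton (EH ((bcD B).obj ω) (Dual.inD B (B ⧸ J)) (deg hωB (IsLocalRing.maximalIdeal B))) := fun J hJ => by
      subst hJ
      assumption
    haveI := h _ hmax
    exact len_eq_zero_of_subsingleton
  obtain ⟨eL⟩ := nonempty_lBase_iso_bcD (A := A) B
  refine ⟨_, isDualizing_shift hωB (deg hωB (IsLocalRing.maximalIdeal B)), isNormalized_shift hωB, fun i => ?_,
    fun i => ?_⟩
  · haveI := finite_HD_bcD B K i (hK i)
    exact Module.Finite.equiv (GrothLib.RGamma.hdIso (eL.app K) i).symm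
  · exact ⟨shiftTarget ((bcD B).obj ω) _ (deg hωB (IsLocalRing.maximalIdeal B)) i (deg hω p.asIdeal + i) (by rw [hc]) ≪≫ₗ
      ((Linear.homCongr B (eL.app K) (shiftBc B ω (deg hω p.asIdeal + i)).symm) ≪≫ₗ
        (θEquiv B (isBC_of_finite B K ω a N hK (deg hω p.asIdeal + i))).symm)⟩

include hω in
/-- `a` kills `H^i_q(K_q)` iff it kills the dual in degree `deg q - i` at `q`. -/
theorem killed_HDI_iff_dual (q : PrimeSpectrum A) [DRing.HasLBaseChange (algebraMap A (Rq q))]
    (K : Dual.D A) (N : ℤ) [K.IsLE N] (hK : ∀ i, Module.Finite A (Dual.HD A K i)) (i : ℤ) (a : A) :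
    (∀ x : Dual2.HDI (Rq q) (IsLocalRing.maximalIdeal (Rq q)) ((DRing.LBaseChange (algebraMap A (Rq q))).obj K) i,
        algebraMap A (Rq q) a • x = 0) ↔
      ∀ φ : EH ω K (deg hω q.asIdeal - i), ∃ s, s ∉ q.asIdeal ∧ s • a • φ = 0 := by
  let B := Rq q
  let KB := (DRing.LBaseChange (algebraMap A B)).obj K
  obtain ⟨ω', hω', hn, hfin, he⟩ := exists_localized_EH_equivD hω q K N hK
  obtain ⟨e⟩ := he (-i)
  obtain ⟨E, _, _, f, hf⟩ := exists_hull B
  obtain ⟨d⟩ := nonempty_local_duality hω' hn hf KB hfin i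
  obtain ⟨X, -, ⟨eX⟩⟩ := exists_finite_hom_equiv hω' KB hfin (-i)
  let D := d.trans (eX.symm.congrLeft E B)
  let G := eX.trans e
  let b : B := algebraMap A B a
  have h1 : (∀ x : Dual2.HDI B (IsLocalRing.maximalIdeal B) KB i, b • x = 0) ↔
      b ∈ Module.annihilator B X := by
    rw [GrothLib.Matlis.annihilator_dual hf, Module.mem_annihilator]
    refine ⟨fun h φ => ?_, fun h x => D.injective ?_⟩
    · obtain ⟨x, rfl⟩ := D.surjective φ
      exact ((map_smul D b x).symm.trans (congrArg D (h x))).trans (map_zero D)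
    · exact ((map_smul D b x).trans (h _)).trans (map_zero D).symm
  refine h1.trans ?_
  rw [Module.mem_annihilator, show deg hω q.asIdeal - i = deg hω q.asIdeal + -i from rfl, ← killed_tensor_iff]
  refine ⟨fun h y => ?_, fun h x => G.injective ?_⟩
  · obtain ⟨x, rfl⟩ := G.surjective y
    exact ((map_smul G b x).symm.trans (congrArg G (h x))).trans (map_zero G)
  · exact ((map_smul G b x).trans (h _)).trans (map_zero G).symm

end GrothLib.FaltingsD3
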