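import Groth.Agent.Lib.FaltingsD3.Complex
import Groth.Agent.Lib.RGamma.HDI
import Groth.Agent.Lib.CohDer19.InjAmp

/-!
# Local cohomology of an object of the derived category through a complex of injective modules
-/

set_option autoImplicit false
set_option linter.style.haveILetI false
universe u v

open CategoryTheory Limits Opposite HomologicalComplex PrimeSpectrum GrothLib.FaltingsT3 GrothLib.RGamma

attribute [local instance] HasDerivedCategory.standard

namespace GrothLib.FaltingsD3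

variable {A : Type u} [CommRing A]

/-- `A/J` in degree `0`. -/
noncomputable abbrev qCx (J : Ideal A) : CochainComplex (ModuleCat.{u} A) ℤ :=
  (HomologicalComplex.single (ModuleCat.{u} A) (ComplexShape.up ℤ) 0).obj (ModuleCat.of A (A ⧸ J))

/-- The image of `1`. -/
noncomputable def el {J : Ideal A} {E : CochainComplex (ModuleCat.{u} A) ℤ} (f : qCx J ⟶ E) : E.X 0 :=
  f.f 0 ((singleObjXSelf (ComplexShape.up ℤ) 0 (ModuleCat.of A (A ⧸ J))).inv (Ideal.Quotient.mk J 1))

variable {J : Ideal A} {E : CochainComplex (ModuleCat.{u} A) ℤ}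

theorem smul_el (f : qCx J ⟶ E) {a : A} (ha : a ∈ J) : a • el f = 0 := by
  unfold el
  have h0 : a • (Ideal.Quotient.mk J 1 : ModuleCat.of A (A ⧸ J)) = 0 := by
    change (Ideal.Quotient.mk J) (a * 1) = 0
    rw [mul_one, Ideal.Quotient.eq_zero_iff_mem]
    exact ha
  rw [← map_smul, ← map_smul, h0, map_zero, map_zero]

theorem d_el (f : qCx J ⟶ E) : E.d 0 (0 + 1) (el f) = 0 := by
  unfold el
  rw [← ConcreteCategory.comp_apply, f.comm, ConcreteCategory.comp_apply,
    show (qCx J).d 0 (0 + 1) = 0 from (isZero_single_obj_X _ _ _ _ (by omega)).eq_of_tgt _ _]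
  exact map_zero _

theorem exists_of_homotopy {f g : qCx J ⟶ E} (h : Homotopy f g) :
    ∃ v : E.X (-1), (∀ a ∈ J, a • v = 0) ∧ el f - el g = E.d (-1) 0 v := by
  let v : E.X (-1) := h.hom 0 (-1) ((singleObjXSelf (ComplexShape.up ℤ) 0 (ModuleCat.of A (A ⧸ J))).inv
    (Ideal.Quotient.mk J 1))
  refine ⟨v, fun a ha => ?_, ?_⟩
  · have h0 : a • (Ideal.Quotient.mk J 1 : ModuleCat.of A (A ⧸ J)) = 0 := by
      change (Ideal.Quotient.mk J) (a * 1) = 0
      rw [mul_one, Ideal.Quotient.eq_zero_iff_mem]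
      exact ha
    simp only [v, ← map_smul, h0, map_zero]
  · have hc := h.comm 0
    rw [dNext_eq _ (show (ComplexShape.up ℤ).Rel 0 (0 + 1) from rfl),
      prevD_eq _ (show (ComplexShape.up ℤ).Rel (-1) 0 from by simp),
      show (qCx J).d 0 (0 + 1) = 0 from (isZero_single_obj_X _ _ _ _ (by omega)).eq_of_tgt _ _,
      zero_comp, zero_add] at hc
    have hc' := ConcreteCategory.congr_hom hc ((singleObjXSelf (ComplexShape.up ℤ) 0 (ModuleCat.of A (A ⧸ J))).inv
      (Ideal.Quotient.mk J 1))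
    change el f = E.d (-1) 0 v + el g at hc'
    rw [hc', add_sub_cancel_right]

theorem exists_hom_of_killed {x : E.X 0} (hx : E.d 0 (0 + 1) x = 0) (h : ∀ a ∈ J, a • x = 0) :
    ∃ f : qCx J ⟶ E, el f = x := by
  let g : (A ⧸ J) →ₗ[A] E.X 0 := J.liftQ (LinearMap.toSpanSingleton A _ x) fun a ha => h a ha
  refine ⟨mkHomFromSingle (ModuleCat.ofHom g) fun k hk => ?_, ?_⟩
  · obtain rfl : 0 + 1 = k := hk
    refine ModuleCat.hom_ext (Submodule.linearMap_qext _ (LinearMap.ext fun r => ?_))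
    change E.d 0 (0 + 1) (r • x) = 0
    rw [map_smul, hx, smul_zero]
  · unfold el
    rw [mkHomFromSingle_f, ConcreteCategory.comp_apply, Iso.inv_hom_id_apply]
    exact one_smul A x

theorem Q_map_eq_zero {f : qCx J ⟶ E} {v : E.X (-1)} (hv : ∀ a ∈ J, a • v = 0) (h : E.d (-1) 0 v = el f) :
    DerivedCategory.Q.map f = 0 := by
  let k : (A ⧸ J) →ₗ[A] E.X (-1) := J.liftQ (LinearMap.toSpanSingleton A _ v) fun a ha => hv a ha
  let η := singleObjXSelf (ComplexShape.up ℤ) 0 (ModuleCat.of A (A ⧸ J))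
  let hom : ∀ p q, (ComplexShape.up ℤ).Rel q p → ((qCx J).X p ⟶ E.X q) :=
    fun p q hqp =>
    if hp : p = 0 then
      eqToHom (congrArg (qCx J).X hp) ≫ η.hom ≫ ModuleCat.ofHom k ≫
        eqToHom (congrArg E.X (show (-1 : ℤ) = q by simp only [ComplexShape.up_Rel] at hqp; omega))
    else 0
  have hnull : f = Homotopy.nullHomotopicMap' hom := by
    refine from_single_hom_ext ?_
    rw [Homotopy.nullHomotopicMap'_f (show (ComplexShape.up ℤ).Rel (-1) 0 from by simp)
      (show (ComplexShape.up ℤ).Rel 0 (0 + 1) from rfl),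
      show (qCx J).d 0 (0 + 1) = 0 from (isZero_single_obj_X _ _ _ _ (by omega)).eq_of_tgt _ _,
      zero_comp, zero_add]
    simp only [hom, dif_pos, eqToHom_refl, Category.id_comp, Category.comp_id, Category.assoc]
    rw [← cancel_epi η.inv]
    simp only [η, Iso.inv_hom_id_assoc]
    refine ModuleCat.hom_ext (Submodule.linearMap_qext _ (LinearMap.ext_ring ?_))
    change el f = E.d (-1) 0 ((1 : A) • v)
    rw [one_smul, h]
  rw [hnull, DerivedCategory.Q_map_eq_of_homotopy _ (Homotopy.nullHomotopy' hom)]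
  exact CategoryTheory.Functor.map_zero _ _ _

/-- The diagram whose colimit is local cohomology along a family of ideals. -/
noncomputable abbrev diagG {D : Type v} [SmallCategory D] (ℑ : D ⥤ Ideal A) (K : Dual.D A) :
    Dᵒᵖ ⥤ ModuleCat.{u + 1} A :=
  (localCohomology.ringModIdeals ℑ ⋙ DerivedCategory.singleFunctor (ModuleCat.{u} A) 0).op ⋙
    (linearYoneda A (Dual.D A)).obj K

/-- Identification of a complex with a piece of `L` around degree `n + 1`. -/
structure Match (E : CochainComplex (ModuleCat.{u} A) ℤ) (L : Cx A) (n : ℕ) where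
  /-- degree `-1` -/
  e₁ : E.X (-1) ≃ₗ[A] L.X n
  /-- degree `0` -/
  e₀ : E.X 0 ≃ₗ[A] L.X (n + 1)
  /-- sign -/
  ε : Aˣ
  comm : ∀ v, e₀ (E.d (-1) 0 v) = (ε : A) • L.d n (e₁ v)
  cocycle : ∀ x, E.d 0 (0 + 1) x = 0 ↔ L.d (n + 1) (e₀ x) = 0

variable {L : Cx A} {n : ℕ} {T : Set (PrimeSpectrum A)}

theorem nonempty_colimit_equiv [E.IsKInjective] (P : Match E L n) (hT : StableUnderSpecialization T)
    {D : Type v} [SmallCategory D] (ℑ : D ⥤ Ideal A)
    [HasColimit (diagG ℑ (DerivedCategory.Q.obj E))]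
    [PreservesColimit (diagG ℑ (DerivedCategory.Q.obj E)) (forget (ModuleCat.{u + 1} A))]
    (hne : Nonempty D)
    (hmem : ∀ j, zeroLocus (ℑ.obj j : Set A) ⊆ T)
    (hcof : ∀ (j : D) (K : Ideal A), zeroLocus (K : Set A) ⊆ T → ∃ (j' : D) (_ : j' ⟶ j), ℑ.obj j' ≤ K) :
    Nonempty ((colimit (diagG ℑ (DerivedCategory.Q.obj E)) : ModuleCat.{u + 1} A) ≃ₗ[A] L.HG T n) := by
  have hgam : ∀ {j : D} (f : qCx (ℑ.obj j) ⟶ E), P.e₀ (el f) ∈ Gam T (L.X (n + 1)) := fun {j} f =>
    (mem_Gam_iff_exists hT).mpr ⟨ℑ.obj j, hmem j, fun a ha => by rw [← map_smul, smul_el f ha, map_zero]⟩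
  let cl : ∀ {j : D}, (qCx (ℑ.obj j) ⟶ E) → L.HG T n := fun {j} f =>
    Submodule.Quotient.mk ⟨⟨P.e₀ (el f), (P.cocycle _).1 (d_el f)⟩, (L.mem_ZT T).2 (hgam f)⟩
  have hwd : ∀ {j : D} (f g : qCx (ℑ.obj j) ⟶ E), DerivedCategory.Q.map f = DerivedCategory.Q.map g →
      cl f = cl g := fun {j} f g h => by
    obtain ⟨v, hv, hd⟩ := exists_of_homotopy (homotopy_of_Q_eq h).some
    rw [← sub_eq_zero, ← Submodule.Quotient.mk_sub, Cx.mk_eq_zero]
    refine ⟨(P.ε : A) • P.e₁ v, Submodule.smul_mem _ _ ((mem_Gam_iff_exists hT).mpr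
      ⟨ℑ.obj j, hmem j, fun a ha => by rw [← map_smul, hv a ha, map_zero]⟩), ?_⟩
    show L.d n _ = P.e₀ (el f) - P.e₀ (el g)
    rw [← map_sub, hd, map_smul, P.comm]
  let θ : ∀ j : D, (DerivedCategory.Q.obj (qCx (ℑ.obj j)) ⟶ DerivedCategory.Q.obj E) →ₗ[A] L.HG T n := fun j =>
    { toFun := fun φ => cl (exists_lift_Q φ).choose
      map_add' := fun φ ψ => by
        refine (hwd _ ((exists_lift_Q φ).choose + (exists_lift_Q ψ).choose) ?_).trans ?_
        · rw [Functor.map_add, (exists_lift_Q φ).choose_spec, (exists_lift_Q ψ).choose_spec,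
            (exists_lift_Q (φ + ψ)).choose_spec]
        · exact congrArg Submodule.Quotient.mk (Subtype.ext (Subtype.ext (map_add P.e₀ _ _)))
      map_smul' := fun r φ => by
        refine (hwd _ (r • (exists_lift_Q φ).choose) ?_).trans ?_
        · rw [Functor.map_smul, (exists_lift_Q φ).choose_spec, (exists_lift_Q (r • φ)).choose_spec]
        · exact congrArg Submodule.Quotient.mk (Subtype.ext (Subtype.ext (map_smul P.e₀ r _))) }
  have hθ : ∀ (j : D) (f : qCx (ℑ.obj j) ⟶ E), θ j (DerivedCategory.Q.map f) = cl f := fun j f =>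
    hwd _ _ (exists_lift_Q (DerivedCategory.Q.map f)).choose_spec
  have hmap : ∀ {i j : D} (g : j ⟶ i) (f : qCx (ℑ.obj i) ⟶ E),
      ∃ f' : qCx (ℑ.obj j) ⟶ E, el f' = el f ∧
        (diagG ℑ (DerivedCategory.Q.obj E)).map g.op (DerivedCategory.Q.map f) = DerivedCategory.Q.map f' := by
    intro i j g f
    refine ⟨(HomologicalComplex.single (ModuleCat.{u} A) (ComplexShape.up ℤ) 0).map
      ((localCohomology.ringModIdeals ℑ).map g) ≫ f, ?_, ?_⟩
    · unfold el
      rw [HomologicalComplex.comp_f]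
      erw [single_map_f_self]
      simp only [ConcreteCategory.comp_apply, Iso.inv_hom_id_apply]
      rfl
    · rw [CategoryTheory.Functor.map_comp]
      rfl
  let c : Cocone (diagG ℑ (DerivedCategory.Q.obj E)) :=
    { pt := ModuleCat.of A (ULift.{u + 1} (L.HG T n))
      ι :=
        { app := fun j => ModuleCat.ofHom (ULift.moduleEquiv.symm.toLinearMap ∘ₗ θ j.unop)
          naturality := fun i j g => ModuleCat.hom_ext (LinearMap.ext fun φ => by
            obtain ⟨f, rfl⟩ := exists_lift_Q (P := qCx (ℑ.obj i.unop)) φ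
            obtain ⟨f', he, hf'⟩ := hmap g.unop f
            show ULift.up (θ j.unop ((diagG ℑ (DerivedCategory.Q.obj E)).map g (DerivedCategory.Q.map f))) =
              ULift.up (θ i.unop (DerivedCategory.Q.map f))
            rw [show (diagG ℑ (DerivedCategory.Q.obj E)).map g (DerivedCategory.Q.map f) = DerivedCategory.Q.map f' from hf',
              hθ, hθ]
            exact congrArg ULift.up (congrArg Submodule.Quotient.mk
              (Subtype.ext (Subtype.ext (congrArg P.e₀ he))))) } }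
  let d := (colimit.desc _ c).hom
  have hd : ∀ i φ, d (colimit.ι (diagG ℑ (DerivedCategory.Q.obj E)) i φ) = ULift.up (θ i.unop φ) :=
    fun i φ => ConcreteCategory.congr_hom (colimit.ι_desc c i) φ
  refine ⟨(LinearEquiv.ofBijective d ⟨(injective_iff_map_eq_zero d).2 fun z hz => ?_, fun q => ?_⟩).trans
    ULift.moduleEquiv⟩
  · obtain ⟨i, φ, rfl⟩ := Concrete.colimit_exists_rep _ z
    obtain ⟨f, rfl⟩ := exists_lift_Q (P := qCx (ℑ.obj i.unop)) φ
    rw [hd] at hz
    have hz' : cl f = 0 := (hθ _ f).symm.trans (congrArg ULift.down hz)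
    rw [Cx.mk_eq_zero] at hz'
    obtain ⟨w, hw, hwd'⟩ := hz'
    obtain ⟨K, hK, hKw⟩ := (mem_Gam_iff_exists hT).mp hw
    obtain ⟨j', g, hj'⟩ := hcof i.unop K hK
    obtain ⟨f', he, hf'⟩ := hmap g f
    rw [← colimit.w (diagG ℑ (DerivedCategory.Q.obj E)) g.op, ConcreteCategory.comp_apply]
    have h0 : DerivedCategory.Q.map f' = 0 := by
      refine Q_map_eq_zero (v := (↑P.ε⁻¹ : A) • P.e₁.symm w) (fun a ha => ?_) (P.e₀.injective ?_)
      · rw [smul_comm, ← map_smul, hKw a (hj' ha), map_zero, smul_zero]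
      · rw [map_smul, map_smul, P.comm, LinearEquiv.apply_symm_apply, smul_smul, Units.inv_mul, one_smul, he]
        exact hwd'
    exact (congrArg (colimit.ι (diagG ℑ (DerivedCategory.Q.obj E)) (op j')) (hf'.trans h0)).trans (map_zero _)
  · obtain ⟨z, hz⟩ := Submodule.Quotient.mk_surjective _ q.down
    obtain ⟨K, hK, hKz⟩ := (mem_Gam_iff_exists hT).mp ((L.mem_ZT T).1 z.2)
    obtain ⟨j₀⟩ := hne
    obtain ⟨j, -, hj⟩ := hcof j₀ K hK
    obtain ⟨f, hf⟩ := exists_hom_of_killed (J := ℑ.obj j) (x := P.e₀.symm z.1.1)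
      ((P.cocycle _).2 (by rw [LinearEquiv.apply_symm_apply]; exact z.1.2))
      (fun a ha => by rw [← map_smul, hKz a (hj ha), map_zero])
    refine ⟨colimit.ι (diagG ℑ (DerivedCategory.Q.obj E)) (op j) (DerivedCategory.Q.map f), ?_⟩
    refine (hd (op j) _).trans ?_
    refine (congrArg ULift.up ((hθ j f).trans ?_))
    refine (congrArg Submodule.Quotient.mk (Subtype.ext (Subtype.ext ?_))).trans hz
    exact (congrArg P.e₀ hf).trans (P.e₀.apply_symm_apply _)

/-- The `ℕ`-indexed complex of a cochain complex of injectives. -/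
noncomputable def ofCochain (C : CochainComplex (ModuleCat.{u} A) ℤ) (b : ℤ) [C.IsStrictlyGE (b + 1)]
    (hC : ∀ m, Injective (C.X m)) : Cx A where
  X m := C.X (b + (m : ℤ))
  d m := (C.d (b + (m : ℤ)) (b + ((m + 1 : ℕ) : ℤ))).hom
  d_d m x := by
    have h := ConcreteCategory.congr_hom
      (C.d_comp_d (b + (m : ℤ)) (b + ((m + 1 : ℕ) : ℤ)) (b + ((m + 1 + 1 : ℕ) : ℤ))) x
    exact h
  baer m :=
    haveI : Injective (ModuleCat.of A (C.X (b + (m : ℤ)))) := hC _
    Module.Baer.of_injective (Module.injective_module_of_injective_object A (C.X (b + (m : ℤ))))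
  subsingleton_zero := ModuleCat.subsingleton_of_isZero
    (CochainComplex.isZero_of_isStrictlyGE C (b + 1) (b + ((0 : ℕ) : ℤ)) (by omega))

variable (C : CochainComplex (ModuleCat.{u} A) ℤ) (b : ℤ) [C.IsStrictlyGE (b + 1)] (hC : ∀ m, Injective (C.X m))

theorem nonempty_H_equiv (m : ℕ) :
    Nonempty ((ofCochain C b hC).H m ≃ₗ[A] C.homology (b + ((m + 1 : ℕ) : ℤ))) := by
  have hd : ∀ (k : ℤ), k = b + ((m + 1 + 1 : ℕ) : ℤ) → ∀ x : C.X (b + ((m + 1 : ℕ) : ℤ)),
      (C.d _ k x = 0 ↔ (ofCochain C b hC).d (m + 1) x = 0) := by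
    rintro k rfl x
    exact Iff.rfl
  have hd' := hd (b + ((m + 1 : ℕ) : ℤ) + 1) (by push_cast; ring)
  let f : (ofCochain C b hC).Z m →ₗ[A] C.homology (b + ((m + 1 : ℕ) : ℤ)) :=
    { toFun := fun z => cls _ z.1 ((hd' _).2 z.2)
      map_add' := fun z z' => cls_add _ _ ((hd' _).2 z.2) ((hd' _).2 z'.2)
      map_smul' := fun r z => cls_smul r _ ((hd' _).2 z.2) }
  have hf : LinearMap.ker f = LinearMap.range ((ofCochain C b hC).g m) := by
    ext z
    refine Iff.trans (cls_eq_zero_iff (i := b + (m : ℤ)) (by push_cast; ring) z.1 ((hd' _).2 z.2)) ?_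
    exact ⟨fun ⟨w, hw⟩ => ⟨w, Subtype.ext hw⟩, fun ⟨w, hw⟩ => ⟨w, congrArg Subtype.val hw⟩⟩
  have hs : Function.Surjective f := fun c => by
    obtain ⟨x, hx, rfl⟩ := cls_surjective _ c
    exact ⟨⟨x, (hd' x).1 hx⟩, rfl⟩
  exact ⟨(Submodule.quotEquivOfEq _ _ hf.symm).trans (f.quotKerEquivOfSurjective hs)⟩

theorem nonempty_match (i : ℤ) (m : ℕ) (hi : i = b + ((m + 1 : ℕ) : ℤ)) :
    Nonempty (Match (C⟦i⟧) (ofCochain C b hC) m) := by
  have h₁ : (-1 : ℤ) + i = b + (m : ℤ) := by subst hi; push_cast; ring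
  have h₀ : (0 : ℤ) + i = b + ((m + 1 : ℕ) : ℤ) := by omega
  have h₂ : (0 : ℤ) + 1 + i = b + ((m + 1 + 1 : ℕ) : ℤ) := by subst hi; push_cast; ring
  let u : Aˣ := Units.map (Int.castRingHom A).toMonoidHom i.negOnePow
  have hd : ∀ (p q p' q' : ℤ) (hp : p + i = p') (hq : q + i = q') (v : C.X (p + i)),
      (C.XIsoOfEq hq).toLinearEquiv ((C⟦i⟧).d p q v) = (u : A) • C.d p' q' ((C.XIsoOfEq hp).toLinearEquiv v) := by
    intro p q p' q' hp hq v
    subst hp hq
    simp only [CochainComplex.shiftFunctor_obj_d', Units.smul_def, ModuleCat.hom_zsmul, LinearMap.smul_apply]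
    show ((i.negOnePow : ℤ) • C.d (p + i) (q + i) v) = (((i.negOnePow : ℤ) : A)) • C.d (p + i) (q + i) v
    rw [Int.cast_smul_eq_zsmul]
  refine ⟨{ e₁ := (C.XIsoOfEq h₁).toLinearEquiv
            e₀ := (C.XIsoOfEq h₀).toLinearEquiv
            ε := u
            comm := hd (-1) 0 _ _ h₁ h₀
            cocycle := fun x => ?_ }⟩
  have e := hd 0 (0 + 1) _ _ h₀ h₂ x
  refine ⟨fun h => ?_, fun h => (C.XIsoOfEq h₂).toLinearEquiv.injective (e.trans ?_)⟩
  · exact u.isUnit.smul_eq_zero.1 (e.symm.trans ((congrArg _ h).trans (map_zero _)))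
  · exact ((congrArg ((u : A) • ·) h).trans (smul_zero _)).trans (map_zero _).symm

include hC b in
theorem isKInjective : C.IsKInjective :=
  haveI := hC
  CochainComplex.isKInjective_of_injective C (b + 1)

instance (T : Set (PrimeSpectrum A)) :
    PreservesColimitsOfShape (Dual2.IdealsIn T)ᵒᵖ (forget (ModuleCat.{u + 1} A)) :=
  haveI : PreservesFilteredColimitsOfSize.{u, u} (forget AddCommGrpCat.{u + 1}) :=
    preservesFilteredColimitsOfSize_shrink.{u, u + 1, u, u + 1} _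
  inferInstanceAs (PreservesColimitsOfShape (Dual2.IdealsIn T)ᵒᵖ
    (forget₂ (ModuleCat.{u + 1} A) AddCommGrpCat.{u + 1} ⋙ forget AddCommGrpCat.{u + 1}))

variable (T)

/-- `H^i_T(K)` from the complex. -/
theorem nonempty_HDT_equiv (hT : StableUnderSpecialization T) {K : Dual.D A} (k : DerivedCategory.Q.obj C ≅ K)
    (i : ℤ) (m : ℕ) (hi : i = b + ((m + 1 : ℕ) : ℤ)) :
    Nonempty (Dual2.HDT A T K i ≃ₗ[A] (ofCochain C b hC).HG T m) := by
  haveI := isKInjective C b hC
  obtain ⟨P⟩ := nonempty_match C b hC i m hi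
  haveI : (C⟦i⟧).IsKInjective := inferInstance
  let eK : DerivedCategory.Q.obj (C⟦i⟧) ≅ K⟦i⟧ :=
    (DerivedCategory.Q.commShiftIso i).app C ≪≫ (CategoryTheory.shiftFunctor (Dual.D A) i).mapIso k
  obtain ⟨e⟩ := nonempty_colimit_equiv P hT (Dual2.idealsInDiagram T) ⟨⟨⊤, GrothLib.LCSupp.mem_top⟩⟩
    (fun j => j.property)
    (fun j K hK => ⟨⟨j.obj * K, GrothLib.LCSupp.mem_mul j.property hK⟩,
      ObjectProperty.homMk (homOfLE Ideal.mul_le_left), Ideal.mul_le_right⟩)
  exact ⟨(HasColimit.isoOfNatIso (Functor.isoWhiskerLeft _ ((linearYoneda A (Dual.D A)).mapIso eK.symm))).toLinearEquiv.trans e⟩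

/-- `H^i_I(K)` from the complex. -/
theorem nonempty_HDI_equiv [IsNoetherianRing A] (I : Ideal A) {K : Dual.D A} (k : DerivedCategory.Q.obj C ≅ K)
    (i : ℤ) (m : ℕ) (hi : i = b + ((m + 1 : ℕ) : ℤ)) :
    Nonempty (Dual2.HDI A I K i ≃ₗ[A] (ofCochain C b hC).HG (zeroLocus (I : Set A)) m) := by
  haveI := isKInjective C b hC
  obtain ⟨P⟩ := nonempty_match C b hC i m hi
  haveI : (C⟦i⟧).IsKInjective := inferInstance
  let eK : DerivedCategory.Q.obj (C⟦i⟧) ≅ K⟦i⟧ :=
    (DerivedCategory.Q.commShiftIso i).app C ≪≫ (CategoryTheory.shiftFunctor (Dual.D A) i).mapIso k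
  have hT : StableUnderSpecialization (zeroLocus (I : Set A)) := (isClosed_zeroLocus _).stableUnderSpecialization
  obtain ⟨e⟩ := nonempty_colimit_equiv P hT (localCohomology.idealPowersDiagram I) ⟨op 0⟩
    (fun j => GrothLib.LCSupp.mem_pow subset_rfl _)
    (fun j K hK => by
      have hle : I ≤ K.radical := fun x hx => by
        rw [Ideal.radical_eq_sInf, Ideal.mem_sInf]
        exact fun {Q} hQ => hK (show (⟨Q, hQ.2⟩ : PrimeSpectrum A) ∈ zeroLocus (K : Set A) from hQ.1) hx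
      obtain ⟨m, hm⟩ := Ideal.exists_pow_le_of_le_radical_of_fg hle (IsNoetherian.noetherian _)
      exact ⟨op (max j.unop m), (homOfLE (le_max_left _ _)).op,
        (Ideal.pow_le_pow_right (le_max_right _ _)).trans hm⟩)
  exact ⟨(HasColimit.isoOfNatIso (Functor.isoWhiskerLeft _ ((linearYoneda A (Dual.D A)).mapIso eK.symm))).toLinearEquiv.trans e⟩

end GrothLib.FaltingsD3
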