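import Groth.Prelude.Def_DualLC
import Mathlib.Algebra.Homology.DerivedCategory.TStructure
import Mathlib.Algebra.Homology.DerivedCategory.HomologySequence
import Mathlib.Algebra.Category.ModuleCat.Abelian
import Mathlib.RingTheory.Noetherian.Basic

/-!
# Truncations and local cohomology in low degrees
-/

set_option autoImplicit false
set_option linter.style.haveILetI false
universe u v

open CategoryTheory Limits Pretriangulated Opposite

attribute [local instance] HasDerivedCategory.standard

namespace GrothLib.FaltingsD3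

variable {A : Type u} [CommRing A]

theorem exists_trunc [IsNoetherianRing A] (K : Dual.D A) (N : ℤ) :
    ∃ (K' : Dual.D A), K'.IsLE N ∧
      (∀ i, Subsingleton (Dual.HD A K i) → Subsingleton (Dual.HD A K' i)) ∧
      (∀ i, Module.Finite A (Dual.HD A K i) → Module.Finite A (Dual.HD A K' i)) ∧
      ∀ i ≤ N, ∃ η : K'⟦i⟧ ⟶ K⟦i⟧, ∀ M : ModuleCat.{u} A,
        Function.Bijective fun φ : (DerivedCategory.singleFunctor (ModuleCat.{u} A) 0).obj M ⟶ K'⟦i⟧ => φ ≫ η := by
  obtain ⟨X, Y, hX, hY, f, g, h, mem⟩ :=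
    DerivedCategory.TStructure.t.exists_triangle K N (N + 1) rfl
  haveI : X.IsLE N := ⟨hX⟩
  haveI : Y.IsGE (N + 1) := ⟨hY⟩
  have hinj : ∀ i, Function.Injective ((DerivedCategory.homologyFunctor (ModuleCat.{u} A) i).map f).hom := by
    intro i
    by_cases hi : i ≤ N
    · rw [← ModuleCat.mono_iff_injective]
      refine (DerivedCategory.HomologySequence.mono_homologyMap_mor₁_iff (Triangle.mk f g h) mem (i - 1) i (by omega)).2 ?_
      exact (DerivedCategory.isZero_of_isGE Y (N + 1) (i - 1) (by omega)).eq_of_src _ _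
    · intro x y _
      haveI : Subsingleton (Dual.HD A X i) :=
        ModuleCat.subsingleton_of_isZero (DerivedCategory.isZero_of_isLE X N i (by omega))
      exact Subsingleton.elim (α := Dual.HD A X i) x y
  refine ⟨X, inferInstance, fun i hs => (hinj i).subsingleton, fun i hf => ?_, fun i hi => ?_⟩
  · haveI := hf
    exact Module.Finite.of_injective _ (hinj i)
  · let T := (Triangle.shiftFunctor (Dual.D A) i).obj (Triangle.mk f g h)
    have hT : T ∈ distTriang (Dual.D A) := Triangle.shift_distinguished _ mem i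
    refine ⟨T.mor₁, fun M => ⟨fun φ ψ hφψ => ?_, fun φ => ?_⟩⟩
    · haveI : DerivedCategory.IsGE (Y⟦i⟧⟦(-1 : ℤ)⟧) (N + 1 - i + 1) := by
        haveI : DerivedCategory.IsGE (Y⟦i⟧) (N + 1 - i) :=
          DerivedCategory.TStructure.t.isGE_shift Y (N + 1) i (N + 1 - i) (by omega)
        exact DerivedCategory.TStructure.t.isGE_shift (Y⟦i⟧) (N + 1 - i) (-1) (N + 1 - i + 1) (by omega)
      rw [← sub_eq_zero]
      have h0 : (φ - ψ) ≫ T.mor₁ = 0 := by
        rw [Preadditive.sub_comp]
        exact sub_eq_zero.2 hφψ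
      obtain ⟨z, hz⟩ := Triangle.coyoneda_exact₂ T.invRotate (inv_rot_of_distTriang T hT) (φ - ψ) h0
      rw [hz]
      have hz0 : z = 0 := DerivedCategory.TStructure.t.zero_of_isLE_of_isGE z 0 (N + 1 - i + 1) (by omega)
        inferInstance (by assumption)
      exact hz0 ▸ zero_comp
    · haveI : DerivedCategory.IsGE (Y⟦i⟧) (N + 1 - i) :=
        DerivedCategory.TStructure.t.isGE_shift Y (N + 1) i (N + 1 - i) (by omega)
      obtain ⟨z, hz⟩ := Triangle.coyoneda_exact₂ T hT φ
        (DerivedCategory.TStructure.t.zero_of_isLE_of_isGE (φ ≫ T.mor₂) 0 (N + 1 - i) (by omega) inferInstance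
          (by assumption))
      exact ⟨z, hz.symm⟩

theorem nonempty_colimit_iso {D : Type v} [SmallCategory D] (ℑ : D ⥤ Ideal A) {L L' : Dual.D A} (η : L ⟶ L')
    (hη : ∀ M : ModuleCat.{u} A,
      Function.Bijective fun φ : (DerivedCategory.singleFunctor (ModuleCat.{u} A) 0).obj M ⟶ L => φ ≫ η)
    [HasColimit ((localCohomology.ringModIdeals ℑ ⋙ DerivedCategory.singleFunctor (ModuleCat.{u} A) 0).op ⋙
      (linearYoneda A (Dual.D A)).obj L)]
    [HasColimit ((localCohomology.ringModIdeals ℑ ⋙ DerivedCategory.singleFunctor (ModuleCat.{u} A) 0).op ⋙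
      (linearYoneda A (Dual.D A)).obj L')] :
    Nonempty (colimit ((localCohomology.ringModIdeals ℑ ⋙ DerivedCategory.singleFunctor (ModuleCat.{u} A) 0).op ⋙
        (linearYoneda A (Dual.D A)).obj L) ≅
      colimit ((localCohomology.ringModIdeals ℑ ⋙ DerivedCategory.singleFunctor (ModuleCat.{u} A) 0).op ⋙
        (linearYoneda A (Dual.D A)).obj L')) := by
  let α := Functor.whiskerLeft
    (localCohomology.ringModIdeals ℑ ⋙ DerivedCategory.singleFunctor (ModuleCat.{u} A) 0).op
    ((linearYoneda A (Dual.D A)).map η)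
  haveI : ∀ j, IsIso (α.app j) := fun j => by
    rw [ConcreteCategory.isIso_iff_bijective]
    exact hη _
  haveI : IsIso α := NatIso.isIso_of_isIso_app α
  exact ⟨HasColimit.isoOfNatIso (asIso α)⟩

end GrothLib.FaltingsD3
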